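import Cfsg.Agent.ODD.PS.Main
import Cfsg.Agent.ODD.AH.Main
import Cfsg.Agent.ODD.Red.Gal

/-!
# ODD, box POS: the abstract lemma (helper60)

`g ∈ T` is a `2`-element which centralises `U_J` and has no fixed point on `V_J`.  Then `θ g` is the trace of `g` on the
fixed space of `V_J`, on which `g` has the eigenvalues `lam (k⁻¹ g k)`, `k ∈ N`.  If `x = lam g` has order `2 ^ (e + 2)`
and all other values have smaller order then `θ g - θ (g ^ (1 + 2 ^ (e + 1))) = 2 m x` with `m ≠ 0`.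
-/

set_option autoImplicit false
set_option linter.unusedSectionVars false

open Cfsg

namespace Cfsg.Agent.ODD.Pos

open CoxeterSystem Cfsg.Agent.ChevalleyStructure.CoxeterGeom Cfsg.Agent.Tits.Roots Cfsg.Agent.Nodes.Reps
  Cfsg.Agent.Nodes.BNOf Cfsg.Agent.Nodes.Bruhat Cfsg.Agent.Nodes.LeviDec Cfsg.Agent.Nodes.StabComb
  Cfsg.Agent.H684.OQ Cfsg.Agent.H381.OQ Cfsg.Agent.Characters Cfsg.Agent.ODD.PS Module

section group

variable {Y : Type} [Group Y] [Finite Y]

/-- a class function at an element without fixed points on a subgroup it normalises -/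
theorem lin_fpf {θ : Y → ℂ} (hθ : IsClassFunction Y θ) {V : Subgroup Y} {g : Y}
    (hg : g ∈ Subgroup.normalizer (V : Set Y)) (hf : ∀ v ∈ V, g * v = v * g → v = 1) :
    lin θ (dl g * av (1 : V →* ℂˣ)) = θ g := by
  have := Fintype.ofFinite V
  have hm : ∀ u : V, g⁻¹ * u * g * (u : Y)⁻¹ ∈ V := fun u => by
    have h1 := (Subgroup.mem_normalizer_iff.1 (inv_mem hg) u).1 u.2
    rw [inv_inv] at h1
    exact mul_mem h1 (inv_mem u.2)
  have hinj : Function.Injective fun u : V => (⟨_, hm u⟩ : V) := by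
    intro a b e
    have e1 : g⁻¹ * a * g * (a : Y)⁻¹ = g⁻¹ * b * g * (b : Y)⁻¹ := congrArg Subtype.val e
    have h1 := hf ((b : Y)⁻¹ * a) (mul_mem (inv_mem b.2) a.2) (by
      calc g * ((b : Y)⁻¹ * a) = (b : Y)⁻¹ * g * (g⁻¹ * b * g * (b : Y)⁻¹) * a := by group
        _ = _ := by rw [← e1]; group)
    exact Subtype.ext (inv_mul_eq_one.1 h1).symm
  have h2 : ∀ v : V, θ (g * v) = θ g := fun v => by
    obtain ⟨u, rfl⟩ := Finite.injective_iff_surjective.1 hinj v
    have e : g * (g⁻¹ * u * g * (u : Y)⁻¹) = u * g * (u : Y)⁻¹ := by group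
    show θ (g * (g⁻¹ * u * g * (u : Y)⁻¹)) = _
    rw [e]
    exact hθ _ _
  rw [← mul_one (dl g * _), lin_av]
  simp only [MonoidHom.one_apply, inv_one, Units.val_one, one_smul, mul_one, ← dl_mul, lin_dl, h2]
  rw [Finset.sum_const, Finset.card_univ, ← Nat.card_eq_fintype_card, nsmul_eq_mul, smul_eq_mul, ← mul_assoc,
    inv_mul_cancel₀ (card_ne V), one_mul]

/-- an automorphism which fixes `θ g` fixes `θ (g ^ j)`, `j` prime to the order of `g` -/
theorem fix_pow {θ : Y → ℂ} (hθ : IsCharacter Y θ) {g : Y} {j : ℕ} (hj : j.Coprime (orderOf g)) {s : ℂ ≃+* ℂ}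
    (hs : s (θ g) = θ g) : s (θ (g ^ j)) = θ (g ^ j) := by
  have hχ := Core.isCharacter_comp (Subgroup.zpowers g).subtype hθ
  obtain ⟨m, -, hm⟩ := GaloisBasic.exists_pow_of_ringEquiv (G := Subgroup.zpowers g) s
  obtain ⟨σ, hσ⟩ := GaloisBasic.exists_ringEquiv_of_coprime (G := Subgroup.zpowers g) (m := j)
    (by rwa [Nat.card_zpowers])
  let y : Subgroup.zpowers g := ⟨g, Subgroup.mem_zpowers g⟩
  have h1 := hm _ hχ y
  have h2 := hm _ hχ (y ^ j)
  have h3 := hσ _ hχ y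
  have h4 := hσ _ hχ (y ^ m)
  have h5 : s ((θ ∘ (Subgroup.zpowers g).subtype) y) = (θ ∘ (Subgroup.zpowers g).subtype) y := hs
  rw [← h1, h5, h3, ← pow_mul, mul_comm, pow_mul, ← h2] at h4
  exact h4.symm

omit [Finite Y] in
theorem alg_dl {V : Type} [AddCommGroup V] [Module ℂ V] (ρ : Representation ℂ Y V) (g : Y) :
    ρ.asAlgebraHom (dl g) = ρ g := by
  simp [dl]

omit [Finite Y] in
/-- `z A e = 0` -/
theorem alg_eq_zero {V : Type} [AddCommGroup V] [Module ℂ V] {ρ : Representation ℂ Y V} (hρ : ρ.IsIrreducible)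
    {z e : Al Y} (he : ρ.asAlgebraHom e ≠ 0) (hz : ∀ y, z * dl y * e = 0) : ρ.asAlgebraHom z = 0 := by
  let U : Submodule ℂ V :=
    { carrier := {v | ∀ y, ρ.asAlgebraHom z (ρ y v) = 0}
      zero_mem' := fun y => by rw [map_zero, map_zero]
      add_mem' := fun {a b} ha hb y => by rw [map_add, map_add, ha y, hb y, add_zero]
      smul_mem' := fun c a ha y => by rw [map_smul, map_smul, ha y, smul_zero] }
  rcases ((CharDeep.LinearChar.isIrreducible_iff ρ).1 hρ).2 U (fun g v hv y => by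
    rw [← End.mul_apply (ρ y), ← map_mul]
    exact hv _) with h1 | h1
  · refine absurd (LinearMap.ext fun v => ?_) he
    have h2 : ρ.asAlgebraHom e v ∈ U := fun y => by
      rw [← alg_dl, ← End.mul_apply, ← End.mul_apply, ← map_mul, ← map_mul, hz, map_zero, LinearMap.zero_apply]
    rw [h1] at h2
    exact h2
  · refine LinearMap.ext fun v => ?_
    have h2 : v ∈ U := by rw [h1]; trivial
    have h3 := h2 1
    rwa [map_one] at h3

omit [Group Y] [Finite Y] in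
/-- the trace computation -/
theorem trace_sub {V : Type} [AddCommGroup V] [Module ℂ V] [FiniteDimensional ℂ V] {G P E : End ℂ V} {x : ℂ} {N : ℕ}
    (hx : x ^ N = -1) (hP : P * P = P) (hGP : G * P = P * G) (hz : (G - x • 1) * (G ^ N - 1) * P = 0) (hE : E ≠ 0)
    (h1 : P * E = E) (h2 : G * E = x • E) :
    ∃ m : ℕ, m ≠ 0 ∧ LinearMap.trace ℂ V (G * P) - LinearMap.trace ℂ V (G ^ (1 + N) * P) = 2 * m * x := by
  set Q : End ℂ V := (2 : ℂ)⁻¹ • ((1 - G ^ N) * P) with hQ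
  have hpow : ∀ B : End ℂ V, G * B = x • B → ∀ k : ℕ, G ^ k * B = x ^ k • B := fun B hB k => by
    induction k with
    | zero => rw [pow_zero, pow_zero, one_mul, one_smul]
    | succ k ih => rw [pow_succ, mul_assoc, hB, mul_smul_comm, ih, smul_smul, pow_succ']
  have hfix : ∀ B : End ℂ V, P * B = B → G * B = x • B → Q * B = B := fun B hB hB' => by
    rw [hQ, smul_mul_assoc, mul_assoc, hB, sub_mul, one_mul, hpow B hB' N, hx]
    module
  have hGQ : G * Q = x • Q := by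
    have h3 : (G - x • 1) * Q = 0 := by
      rw [hQ, mul_smul_comm, ← neg_sub (G ^ N), neg_mul, mul_neg, ← mul_assoc, hz, neg_zero, smul_zero]
    rwa [sub_mul, smul_mul_assoc, one_mul, sub_eq_zero] at h3
  have hPQ : P * Q = Q := by
    have h3 : Commute P (1 - G ^ N) := (Commute.one_right P).sub_right ((Commute.symm hGP).pow_right N)
    rw [hQ, mul_smul_comm, ← mul_assoc, h3.eq, mul_assoc, hP]
  have hQQ : IsIdempotentElem Q := hfix Q hPQ hGQ
  have hpr := (LinearMap.isProj_range_iff_isIdempotentElem Q).2 hQQ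
  refine ⟨finrank ℂ (LinearMap.range Q), fun h0 => hE ?_, ?_⟩
  · rw [← hfix E h1 h2, LinearMap.range_eq_bot.1 (Submodule.finrank_eq_zero.1 h0), zero_mul]
  · have h3 : G * P - G ^ (1 + N) * P = (2 * x) • Q := by
      rw [mul_smul, ← hGQ, hQ, mul_smul_comm, smul_smul, mul_inv_cancel₀ two_ne_zero, one_smul, pow_add, pow_one,
        sub_mul, one_mul, mul_sub, mul_assoc]
    rw [← map_sub, h3, map_smul, hpr.trace, smul_eq_mul]
    ring

end group

variable {I W Y : Type} [Fintype I] [DecidableEq I] [Group W] [Finite W] [Group Y] [Finite Y]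
  {M : CoxeterMatrix I} {cs : CoxeterSystem M W} {A : I → I → ℤ} {h : IsCartan M A} {p : ℕ} {T : Subgroup Y}
  {n : I → Y} {X : (I → ℤ) → Subgroup Y} (R : RGD cs h p T n X)

include R

/-- no fixed points on `V_J` -/
theorem fpf_VJ {J : Set I} {g : Y} (hg : g ∈ T) (h2 : ∀ x ∈ NotJ cs h J, ∀ u ∈ X x, g * u = u * g → u = 1) :
    ∀ v ∈ VJ cs h X J, g * v = v * g → v = 1 := by
  intro v hv hc
  have h1 := Nodes.NormalForm.centralizer_U R (S := {g}) (Set.singleton_subset_iff.2 hg)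
  have h3 : v ∈ RGD.Sup (fun x => X x ⊓ Subgroup.centralizer {g}) (RGD.Pos cs h) := by
    rw [← h1]
    exact ⟨VJ_le_U J hv, Subgroup.mem_centralizer_singleton_iff.2 hc.symm⟩
  have h4 : RGD.Sup (fun x => X x ⊓ Subgroup.centralizer {g}) (RGD.Pos cs h) ≤ UJ cs h X J := by
    refine RGD.Sup_le fun x hx u hu => ?_
    rcases mem_PosJ_or_NotJ (cs := cs) (h := h) J hx.1 hx.2 with h5 | h5
    · exact RGD.le_Sup (X := X) h5 hu.1
    · rw [h2 x h5 u hu.1 (Subgroup.mem_centralizer_singleton_iff.1 hu.2).symm]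
      exact one_mem _
  have h5 : v ∈ UJ cs h X J ⊓ VJ cs h X J := ⟨h4 h3, hv⟩
  rwa [UJ_inf_VJ R, Subgroup.mem_bot] at h5

/-- **POS** -/
theorem pos (hG : GG cs h T X = ⊤) {θ : Y → ℂ} (hθ : IsIrrCharacter Y θ)
    {lam : ↥T →* ℂˣ} (h0 : mB R lam θ ≠ 0) {J : Set I} {g : Y} (hg : g ∈ T) {a : ℕ} (ha : g ^ 2 ^ a = 1)
    (h1 : ∀ x ∈ PosJ cs h J, ∀ u ∈ X x, g * u = u * g) (h2 : ∀ v ∈ VJ cs h X J, g * v = v * g → v = 1) {e : ℕ}
    (hx : ((lam ⟨g, hg⟩ : ℂˣ) : ℂ) ^ 2 ^ (e + 1) = -1)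
    (h3 : ∀ w k (hk : Rp cs R.nsys w k), lam ⟨k⁻¹ * g * k, conj_T' R hk hg⟩ = lam ⟨g, hg⟩ ∨
      lam ⟨k⁻¹ * g * k, conj_T' R hk hg⟩ ^ 2 ^ (e + 1) = 1)
    (s : ℂ ≃+* ℂ) (hs : s Complex.I = -Complex.I) : s (θ g) ≠ θ g := by
  intro hfix
  set x : ℂ := ((lam ⟨g, hg⟩ : ℂˣ) : ℂ) with hxd
  set N := 2 ^ (e + 1) with hN
  have hcop : (1 + N).Coprime (orderOf g) := by
    refine Nat.Coprime.coprime_dvd_right (orderOf_dvd_of_pow_eq_one ha) (Nat.Coprime.pow_right a ?_)
    rw [Nat.coprime_two_right, hN, pow_succ]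
    exact ⟨2 ^ e, by ring⟩
  have hgV : g ∈ Subgroup.normalizer (VJ cs h X J : Set Y) := LJ_le_normalizer_VJ R J (T_le_LJ hg)
  have hcl := Core.isIrr_isClassFunction hθ
  have e1 := lin_fpf hcl hgV h2
  have e2 := lin_fpf hcl (pow_mem hgV (1 + N)) fun v hv hcm => by
    obtain ⟨j, hj⟩ := exists_pow_eq_self_of_coprime hcop
    refine h2 v hv ?_
    rw [← hj]
    exact (Commute.pow_left hcm j).eq
  have hfix' := fix_pow (Core.isIrr_isCharacter hθ) hcop hfix
  rw [← lin_eB] at h0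
  obtain ⟨d, ρ, hρ, rfl⟩ := hθ
  set eV : Al Y := av (1 : ↥(VJ cs h X J) →* ℂˣ) with heV
  have hE : ρ.asAlgebraHom (H684.OQ.eB R lam) ≠ 0 := fun h4 => h0 (by rw [AH.lin_character, h4, map_zero])
  have hcV : ∀ l ∈ Subgroup.normalizer (VJ cs h X J : Set Y), Commute (dl l) eV := fun l hl =>
    dl_comm_av _ hl fun _ _ => rfl
  have hVv : ∀ v ∈ VJ cs h X J, eV * dl v = eV := fun v hv => by
    have := av_mul_dl (1 : ↥(VJ cs h X J) →* ℂˣ) ⟨v, hv⟩
    rwa [MonoidHom.one_apply, Units.val_one, one_smul] at this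
  have hUJ : ∀ l ∈ UJ cs h X J, g * l = l * g := fun l hl =>
    (Subgroup.mem_centralizer_singleton_iff.1 ((RGD.Sup_le (K := Subgroup.centralizer {g}) fun x hx u hu =>
      Subgroup.mem_centralizer_singleton_iff.2 (h1 x hx u hu).symm) hl)).symm
  have hz : ∀ y, (dl g - x • 1) * (dl g ^ N - 1) * eV * dl y * H684.OQ.eB R lam = 0 := by
    intro y
    have hy : y ∈ GG cs h T X := by rw [hG]; exact Subgroup.mem_top y
    obtain ⟨w, b₁, hb₁, k, hk, b₂, hb₂, rfl⟩ := (mem_GG R).1 hy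
    obtain ⟨t, ht, u, hu, rfl⟩ := R.mem_B.1 hb₁
    have hu' : t * u * t⁻¹ ∈ UU cs h X := (Subgroup.mem_normalizer_iff.1 (R.T_le_normalizer_U ht) u).1 hu
    obtain ⟨l, hl, v, hv, e3⟩ := (mem_U_iff R (J := J)).1 hu'
    have hk' : Rp cs R.nsys w (t * k) := by
      have := (rp_of_mem (cs := cs) (hN := R.nsys) ht).mul hk
      rwa [one_mul] at this
    have hlV : l ∈ Subgroup.normalizer (VJ cs h X J : Set Y) :=
      LJ_le_normalizer_VJ R J ((RGD.Sup_le fun _ hx => X_le_LJ (PosJ_subset J hx) : UJ cs h X J ≤ _) hl)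
    have e4 : t * u * k * b₂ = l * (v * (t * k * b₂)) := by rw [← mul_assoc l, ← e3]; group
    have e5 : dl b₂ * H684.OQ.eB R lam = ((infl R lam ⟨b₂, hb₂⟩ : ℂˣ) : ℂ) • H684.OQ.eB R lam :=
      dl_mul_av (infl R lam) ⟨b₂, hb₂⟩
    set b : Al Y := dl (t * k) * H684.OQ.eB R lam with hb
    set y : ℂ := ((lam ⟨(t * k)⁻¹ * g * (t * k), conj_T' R hk' hg⟩ : ℂˣ) : ℂ) with hyd
    have e6 : dl g * b = y • b := by
      have e7 : g * (t * k) = t * k * ((t * k)⁻¹ * g * (t * k)) := by group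
      rw [hb, ← mul_assoc, ← dl_mul, e7, dl_mul, mul_assoc, t_mul_eB R lam (conj_T' R hk' hg), mul_smul_comm]
    have e7 : ∀ j : ℕ, dl g ^ j * b = y ^ j • b := fun j => by
      induction j with
      | zero => rw [pow_zero, pow_zero, one_mul, one_smul]
      | succ j ih => rw [pow_succ, mul_assoc, e6, mul_smul_comm, ih, smul_smul, pow_succ']
    have e8 : (dl g - x • 1) * (dl g ^ N - 1) * b = 0 := by
      rw [mul_assoc, sub_mul (dl g ^ N), e7, one_mul]
      rcases h3 w _ hk' with h4 | h4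
      · have h5 : y = x := by rw [hyd, h4]
        rw [mul_sub, mul_smul_comm, sub_mul, e6, smul_mul_assoc, one_mul, h5, sub_self, smul_zero, sub_self]
      · have h5 : y ^ N = 1 := by rw [hyd, ← Units.val_pow_eq_pow_val, h4, Units.val_one]
        rw [h5, one_smul, sub_self, mul_zero]
    have c1 : Commute (dl g) (dl l * eV) := by
      refine Commute.mul_right ?_ (hcV g hgV)
      show _ = _
      rw [← dl_mul, ← dl_mul, hUJ l hl]
    have c2 : Commute ((dl g - x • 1) * (dl g ^ N - 1)) (dl l * eV) :=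
      (c1.sub_left ((Commute.one_left _).smul_left x)).mul_left ((c1.pow_left N).sub_left (Commute.one_left _))
    have e9 : eV * dl (t * u * k * b₂) * H684.OQ.eB R lam =
        ((infl R lam ⟨b₂, hb₂⟩ : ℂˣ) : ℂ) • (dl l * eV * b) := by
      rw [e4, dl_mul l, ← mul_assoc eV, ← (hcV l hlV).eq, dl_mul v, mul_assoc (dl l), ← mul_assoc eV, hVv v hv,
        dl_mul _ b₂, hb]
      simp only [mul_assoc]
      rw [e5]
      simp only [mul_smul_comm]
    rw [mul_assoc _ eV, mul_assoc _ (eV * _), e9, mul_smul_comm, ← mul_assoc, c2.eq, mul_assoc, e8, mul_zero, smul_zero]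
  have hz' := alg_eq_zero hρ hE hz
  have hVB : eV * H684.OQ.eB R lam = H684.OQ.eB R lam := by
    have := avg_eq (1 : ↥(VJ cs h X J) →* ℂˣ) (a := 1) (b := H684.OQ.eB R lam) (c := H684.OQ.eB R lam) fun u => by
      rw [MonoidHom.one_apply, inv_one, Units.val_one, one_smul, one_mul, u_mul_eB R lam (VJ_le_U J u.2)]
    rwa [one_mul] at this
  obtain ⟨m, hm, e3⟩ := trace_sub (G := ρ.asAlgebraHom (dl g)) (P := ρ.asAlgebraHom eV) (x := x) (N := N) hx
    (by rw [← map_mul, av_mul_av]) (by rw [← map_mul, ← map_mul, (hcV g hgV).eq])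
    (by simpa only [map_mul, map_sub, map_smul, map_pow, map_one] using hz') hE (by rw [← map_mul, hVB])
    (by rw [← map_mul, t_mul_eB R lam hg, map_smul])
  have e4 : dl (g ^ (1 + N)) = dl g ^ (1 + N) := map_pow (MonoidAlgebra.of ℂ Y) g _
  rw [← map_pow, ← map_mul, ← map_mul, ← AH.lin_character, ← AH.lin_character, ← e4, e1, e2] at e3
  have e5 := congrArg s e3
  rw [map_sub, hfix, hfix', e3, map_mul, map_mul, map_natCast, map_ofNat] at e5
  have e6 : x = s x := mul_left_cancel₀ (mul_ne_zero two_ne_zero (Nat.cast_ne_zero.2 hm)) e5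
  have e7 : (x ^ 2 ^ e) ^ 2 = Complex.I ^ 2 := by rw [← pow_mul, ← pow_succ, hx, Complex.I_sq]
  have e8 : s (x ^ 2 ^ e) = x ^ 2 ^ e := by rw [map_pow, ← e6]
  rcases sq_eq_sq_iff_eq_or_eq_neg.1 e7 with h4 | h4
  · rw [h4, hs] at e8
    exact Red.I_ne_neg_I e8.symm
  · rw [h4, map_neg, hs, neg_neg] at e8
    exact Red.I_ne_neg_I e8

end Cfsg.Agent.ODD.Pos
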