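import Cfsg.Agent.ODD.PS.Cor
import Cfsg.Agent.ODD.Pos.Pos

/-!
# ODD, box POS: generators of the torus (helper60)

`Tor R c g` : `T` is generated by the `g i` and central elements of odd order, `n i * g j * (n i)⁻¹ = g j * g i ^ c i j`,
and `g i` is a generator of the group `[T, n i]`, which has at least `|X_i| - 1` elements.

* `el y = ∏ g i ^ y i`, `conj_el`, `conj_word`, `val_el`;
* `zet_ne` (`mu (g i) = 1` gives a good reflection), `cen_of_comm`, `comm_of_fix`, `order`, `nofix`;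
* `Rg_le_Wst`, `fix_tau`, `cen_PosJ`, `free_NotJ`, `exists_conj` (commuting involutions in the stabiliser).
-/

set_option autoImplicit false
set_option linter.unusedSectionVars false

open Cfsg

namespace Cfsg.Agent.ODD.Pos

open CoxeterSystem Cfsg.Agent.ChevalleyStructure.CoxeterGeom Cfsg.Agent.Tits.Roots Cfsg.Agent.Tits.Core
  Cfsg.Agent.Nodes.Reps Cfsg.Agent.Nodes.BNOf Cfsg.Agent.Nodes.Bruhat Cfsg.Agent.Nodes.LeviDec
  Cfsg.Agent.Nodes.StabComb Cfsg.Agent.H684.OQ Cfsg.Agent.H381.OQ Cfsg.Agent.ODD.PS Cfsg.Agent.ODD.Red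

section vec

variable {I : Type} [Fintype I] [DecidableEq I]

theorem vec_ind {P : (I → ℤ) → Prop} (h0 : P 0) (h1 : ∀ i, P (sr i)) (ha : ∀ a b, P a → P b → P (a + b))
    (hn : ∀ a, P a → P (-a)) (y : I → ℤ) : P y := by
  let K : AddSubgroup (I → ℤ) :=
    { carrier := {y | P y}
      zero_mem' := h0
      add_mem' := fun {a b} => ha a b
      neg_mem' := fun {a} => hn a }
  have e : y = ∑ i, y i • sr i := by
    funext k
    simp [sr, Finset.sum_apply, Pi.single_apply]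
  have h2 : ∑ i, y i • sr i ∈ K := K.sum_mem fun i _ => K.zsmul_mem (h1 i) _
  rw [e]
  exact h2

/-- the action of `n i` on the exponents -/
def sc (c : I → I → ℤ) (i : I) (y : I → ℤ) : I → ℤ := y + pairing c i y • sr i

/-- the action of a word on the exponents -/
def scw (c : I → I → ℤ) (ω : List I) (y : I → ℤ) : I → ℤ := ω.foldr (sc c) y

theorem scw_nil (c : I → I → ℤ) (y : I → ℤ) : scw c [] y = y := rfl

theorem scw_cons (c : I → I → ℤ) (i : I) (ω : List I) (y : I → ℤ) : scw c (i :: ω) y = sc c i (scw c ω y) := rfl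

theorem pairing_sr (c : I → I → ℤ) (i j : I) : pairing c i (sr j) = c i j := by
  rw [sr, pairing_single, mul_one]

theorem pairing_neg' (c : I → I → ℤ) (i : I) (y : I → ℤ) : pairing c i (-y) = -pairing c i y := by
  rw [← neg_one_smul ℤ y, pairing_smul, neg_one_mul]

variable {W : Type} [Group W] {M : CoxeterMatrix I} (cs : CoxeterSystem M W) {A : I → I → ℤ} (h : IsCartan M A)

theorem rep_sc (i : I) (y : I → ℤ) : rep cs h (cs.simple i) y = sc (-A) i y := by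
  rw [rep_simple_eq, sc, sub_eq_add_neg, ← neg_smul]
  congr 2
  simp only [pairing, Pi.neg_apply, neg_mul, Finset.sum_neg_distrib]

theorem rep_word (ω : List I) (y : I → ℤ) : rep cs h (cs.wordProd ω) y = scw (-A) ω y := by
  induction ω with
  | nil => rw [wordProd_nil, map_one, Module.End.one_apply, scw_nil]
  | cons i ω ih => rw [wordProd_cons, rep_mul_apply, ih, rep_sc, scw_cons]

include h in
/-- equality of words -/
theorem word_eq {ω ω' : List I} (e : ∀ j, scw (-A) ω (sr j) = scw (-A) ω' (sr j)) : cs.wordProd ω = cs.wordProd ω' := by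
  refine rep_injective cs h (LinearMap.ext fun y => ?_)
  induction y using vec_ind with
  | h0 => rw [map_zero, map_zero]
  | h1 i => rw [rep_word, rep_word, e]
  | ha a b ha hb => rw [map_add, map_add, ha, hb]
  | hn a ha => rw [map_neg, map_neg, ha]

end vec

section grp

/-- commuting involutions can be conjugated into a subgroup of odd index -/
theorem exists_conj_of_odd {G : Type*} [Group G] [Finite G] {H : Subgroup G} (hH : Odd H.index) {S : Set G}
    (h2 : ∀ a ∈ S, a * a = 1) (hc : ∀ a ∈ S, ∀ b ∈ S, a * b = b * a) : ∃ w, ∀ a ∈ S, w⁻¹ * a * w ∈ H := by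
  have : Fact (Nat.Prime 2) := ⟨Nat.prime_two⟩
  have hcm : ∀ a ∈ Subgroup.closure S, ∀ b ∈ Subgroup.closure S, a * b = b * a := fun a ha b hb =>
    Subgroup.closure_induction₂ (p := fun a b _ _ => Commute a b) (fun a b ha hb => hc a ha b hb)
      (fun a _ => Commute.one_left a) (fun a _ => Commute.one_right a)
      (fun _ _ _ _ _ _ h1 h2 => h1.mul_left h2) (fun _ _ _ _ _ _ h1 h2 => h1.mul_right h2)
      (fun _ _ _ _ h1 => h1.inv_left) (fun _ _ _ _ h1 => h1.inv_right) ha hb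
  have hD : IsPGroup 2 (Subgroup.closure S) := by
    rintro ⟨a, ha⟩
    refine ⟨1, Subtype.ext ?_⟩
    show a ^ 2 ^ 1 = 1
    rw [pow_one, pow_two]
    induction ha using Subgroup.closure_induction with
    | mem a ha => exact h2 a ha
    | one => exact one_mul 1
    | mul a b ha hb h3 h4 =>
      calc a * b * (a * b) = a * (b * a) * b := by group
        _ = (a * a) * (b * b) := by rw [← hcm a ha b hb]; group
        _ = 1 := by rw [h3, h4, one_mul]
    | inv a _ h3 => rw [← mul_inv_rev, h3, inv_one]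
  have h3 : ¬ 2 ∣ Nat.card (G ⧸ H) := fun h4 => (Nat.not_even_iff_odd.2 hH) (even_iff_two_dvd.2 h4)
  obtain ⟨x, hx⟩ := hD.nonempty_fixed_point_of_prime_not_dvd_card (G ⧸ H) h3
  obtain ⟨w, rfl⟩ := QuotientGroup.mk_surjective x
  refine ⟨w, fun a ha => ?_⟩
  have h4 : ((a * w : G) : G ⧸ H) = w := hx ⟨a, Subgroup.subset_closure ha⟩
  have h5 := QuotientGroup.eq.1 h4.symm
  rwa [← mul_assoc] at h5

theorem exists_e {x : ℂ} {a : ℕ} (ha : x ^ 2 ^ a = 1) (h2 : x ^ 2 ≠ 1) : ∃ e : ℕ, x ^ 2 ^ (e + 1) = -1 := by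
  induction a with
  | zero => exact absurd (by rw [pow_zero, pow_one] at ha; rw [ha, one_pow]) h2
  | succ a ih =>
    rw [pow_succ, pow_mul] at ha
    rcases sq_eq_one_iff.1 ha with h3 | h3
    · exact ih h3
    · cases a with
      | zero => exact absurd (by rw [pow_zero, pow_one] at h3; rw [h3]; norm_num) h2
      | succ e => exact ⟨e, h3⟩

end grp

variable {I W Y : Type} [Fintype I] [DecidableEq I] [Group W] [Finite W] [Group Y] [Finite Y]
  {M : CoxeterMatrix I} {cs : CoxeterSystem M W} {A : I → I → ℤ} {h : IsCartan M A} {p : ℕ} {T : Subgroup Y}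
  {n : I → Y} {X : (I → ℤ) → Subgroup Y} (R : RGD cs h p T n X)

/-- **generators of the torus** -/
structure Tor (R : RGD cs h p T n X) (c : I → I → ℤ) (g : I → Y) : Prop where
  comm : ∀ a ∈ T, ∀ b ∈ T, a * b = b * a
  mem : ∀ i, g i ∈ T
  conj : ∀ i j, n i * g j * (n i)⁻¹ = g j * g i ^ c i j
  gen : ∀ t ∈ T, ∃ z ∈ Subgroup.center Y, Odd (orderOf z) ∧ ∃ y ∈ Subgroup.closure (Set.range g), t = z * y
  sur : ∀ i, ∃ j, c i j = 1
  card : ∀ i, Nat.card (X (sr i)) ≤ orderOf (g i) + 1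

include R

theorem rp_word (ω : List I) : Rp cs R.nsys (cs.wordProd ω) (ω.map n).prod := by
  induction ω with
  | nil => rw [wordProd_nil]; exact rp_one
  | cons i ω ih => rw [wordProd_cons, List.map_cons, List.prod_cons]; exact (rp_simple cs R.nsys i).mul ih

theorem X_conj {x : I → ℤ} (hx : IsRoot cs h x) {t u : Y} (ht : t ∈ T) (hu : u ∈ X x) : t * u * t⁻¹ ∈ X x := by
  rw [← R.tor x hx t ht]
  exact conj_mem_cj.2 hu

/-- an element of `T` with a fixed point on `X_i` commutes with `n i` -/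
theorem comm_of_fix (hc : ∀ a ∈ T, ∀ b ∈ T, a * b = b * a) {i : I} {t u : Y} (ht : t ∈ T) (hu : u ∈ X (sr i))
    (hu1 : u ≠ 1) (e : t * u = u * t) : n i * t * (n i)⁻¹ = t := by
  have h1 := tx_conj R i ht hu hu1 hc
  rw [e, mul_inv_cancel_right, left_eq_mul, mul_inv_eq_one] at h1
  exact h1

theorem Rg_le_Wst (hc : ∀ a ∈ T, ∀ b ∈ T, a * b = b * a) (lam : ↥T →* ℂˣ) : Rg R lam ≤ Wst R lam := by
  refine (Subgroup.closure_le _).2 ?_
  rintro _ ⟨w, k, hk, i, rfl, hz⟩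
  have hni := rp_simple cs R.nsys i
  refine ⟨k⁻¹ * n i * k, (hk.inv.mul hni).mul hk, fun t ht ht' => ?_⟩
  have h1 := (cjl_eq_iff R hni).1 (cjl_of_zet R hc hz) _ (conj_T R hk ht) (conj_T' R hni (conj_T R hk ht))
  rw [cjl_apply _ _ _ (conj_T' R hk (conj_T R hk ht)), cjl_apply _ _ _ (conj_T' R hk (conj_T' R hni (conj_T R hk ht)))]
    at h1
  convert h1 using 3 <;> group

/-- the stabiliser of a conjugate -/
theorem mem_Wst_cjl {lam : ↥T →* ℂˣ} {w a : W} {k : Y} (hk : Rp cs R.nsys w k) (ha : w⁻¹ * a * w ∈ Wst R lam) :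
    a ∈ Wst R (cjl hk.mem_normalizer lam) := by
  obtain ⟨m, hm, h1⟩ := ha
  have hm' : Rp cs R.nsys a (k * m * k⁻¹) := by
    have := (hk.mul hm).mul hk.inv
    rwa [show w * (w⁻¹ * a * w) * w⁻¹ = a by group] at this
  refine ⟨_, hm', fun t ht ht' => ?_⟩
  rw [cjl_apply _ _ ht (conj_T' R hk ht), cjl_apply _ _ ht' (conj_T' R hk ht'),
    h1 _ (conj_T' R hk ht) (conj_T' R hm (conj_T' R hk ht))]
  congr 2
  group

/-- commuting involutions fix a conjugate -/
theorem exists_conj {lam : ↥T →* ℂˣ} (hl : Odd (Wst R lam).index) {S : Set W} (h2 : ∀ a ∈ S, a * a = 1)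
    (hc : ∀ a ∈ S, ∀ b ∈ S, a * b = b * a) :
    ∃ (w : W) (k : Y) (hk : Rp cs R.nsys w k), ∀ a ∈ S, a ∈ Wst R (cjl hk.mem_normalizer lam) := by
  obtain ⟨w, hw⟩ := exists_conj_of_odd hl h2 hc
  obtain ⟨k, hk⟩ := exists_rp cs R.nsys w
  exact ⟨w, k, hk, fun a ha => mem_Wst_cjl R hk (hw a ha)⟩

/-- descent to the `J`-antidominant roots -/
theorem free_NotJ {J : Set I} {g : Y} (hJ : ∀ j ∈ J, n j * g * (n j)⁻¹ = g)
    (h0 : ∀ x ∈ NotJ cs h J, (∀ j ∈ J, pairing A j x ≤ 0) → ∀ u ∈ X x, g * u = u * g → u = 1) :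
    ∀ x ∈ NotJ cs h J, ∀ u ∈ X x, g * u = u * g → u = 1 := by
  have := Fintype.ofFinite W
  intro x hx
  induction hn : (ht x).toNat using Nat.strong_induction_on generalizing x with
  | _ N ih =>
  by_cases h1 : ∀ j ∈ J, pairing A j x ≤ 0
  · exact h0 x hx h1
  push Not at h1
  obtain ⟨j, hj, h1⟩ := h1
  have hx' := NotJ.act (Subgroup.subset_closure ⟨j, hj, rfl⟩) hx
  intro u hu e
  have h2 := sum_pos hx'.2.1 hx'.1.ne_zero
  have h3 := ih _ (by rw [ht_simple] at h2 ⊢; omega) _ hx' rfl _ (R.conj_mem (rp_simple cs R.nsys j) hx.1 hu) (by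
    rw [← hJ j hj]
    calc n j * g * (n j)⁻¹ * (n j * u * (n j)⁻¹) = n j * (g * u) * (n j)⁻¹ := by group
      _ = _ := by rw [e]; group)
  have h4 : u = (n j)⁻¹ * (n j * u * (n j)⁻¹) * n j := by group
  rw [h4, h3]
  group

/-- transport of a fixed point to a simple root -/
theorem comm_of_fix_word (hc : ∀ a ∈ T, ∀ b ∈ T, a * b = b * a) {i : I} {ω : List I} {x : I → ℤ}
    (hx : IsRoot cs h x) (e0 : scw (-A) ω x = sr i) {t u : Y} (ht : t ∈ T) (hu : u ∈ X x) (hu1 : u ≠ 1)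
    (e : t * u = u * t) : n i * ((ω.map n).prod * t * (ω.map n).prod⁻¹) * (n i)⁻¹ =
      (ω.map n).prod * t * (ω.map n).prod⁻¹ := by
  have hk := rp_word R ω
  set k := (ω.map n).prod
  have h1 := R.conj_mem hk hx hu
  rw [rep_word, e0] at h1
  refine comm_of_fix R hc (conj_T R hk ht) h1 (fun h2 => hu1 ?_) ?_
  · have h4 : u = k⁻¹ * (k * u * k⁻¹) * k := by group
    rw [h4, h2]
    group
  · calc k * t * k⁻¹ * (k * u * k⁻¹) = k * (t * u) * k⁻¹ := by group
      _ = _ := by rw [e]; group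

namespace Tor

variable {R} {c : I → I → ℤ} {g : I → Y} (C : Tor R c g)

include C

/-- `∏ g i ^ y i` -/
noncomputable def el (y : I → ℤ) : Y :=
  MonoidHom.noncommPiCoprod (fun i => zpowersHom Y (g i))
    (fun i j _ _ _ => Commute.zpow_zpow (C.comm _ (C.mem i) _ (C.mem j)) _ _) fun i => Multiplicative.ofAdd (y i)

theorem el_zero : C.el 0 = 1 := map_one (MonoidHom.noncommPiCoprod _ _)

theorem el_add (a b : I → ℤ) : C.el (a + b) = C.el a * C.el b := by
  unfold el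
  rw [← map_mul]
  rfl

theorem el_neg (a : I → ℤ) : C.el (-a) = (C.el a)⁻¹ := by
  rw [eq_inv_iff_mul_eq_one, ← el_add, neg_add_cancel, el_zero]

theorem el_smul (k : ℤ) (a : I → ℤ) : C.el (k • a) = C.el a ^ k := by
  unfold el
  rw [← map_zpow]
  rfl

theorem el_sr (i : I) : C.el (sr i) = g i := by
  have e : (fun j => Multiplicative.ofAdd (sr i j)) = Pi.mulSingle i (Multiplicative.ofAdd (1 : ℤ)) := by
    funext j
    by_cases hj : j = i
    · rw [hj, sr_self, Pi.mulSingle_eq_same]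
    · rw [sr_ne hj, Pi.mulSingle_eq_of_ne hj, ofAdd_zero]
  unfold el
  rw [e]
  exact (MonoidHom.noncommPiCoprod_mulSingle _ i _).trans (zpow_one _)

theorem el_mem (y : I → ℤ) : C.el y ∈ T := by
  induction y using vec_ind with
  | h0 => rw [el_zero]; exact one_mem _
  | h1 i => rw [el_sr]; exact C.mem i
  | ha a b ha hb => rw [el_add]; exact mul_mem ha hb
  | hn a ha => rw [el_neg]; exact inv_mem ha

theorem conj_el' (i : I) (y : I → ℤ) : n i * C.el y * (n i)⁻¹ = C.el y * g i ^ pairing c i y := by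
  induction y using vec_ind with
  | h0 => rw [el_zero]; simp [pairing]
  | h1 j => rw [el_sr, pairing_sr, C.conj]
  | ha a b ha hb =>
    have h1 := C.comm _ (zpow_mem (C.mem i) (pairing c i a)) _ (C.el_mem b)
    calc n i * C.el (a + b) * (n i)⁻¹ = (n i * C.el a * (n i)⁻¹) * (n i * C.el b * (n i)⁻¹) := by rw [el_add]; group
      _ = C.el a * (g i ^ pairing c i a * C.el b) * g i ^ pairing c i b := by rw [ha, hb]; group
      _ = _ := by rw [h1, el_add, pairing_add, zpow_add]; group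
  | hn a ha =>
    have h1 := C.comm _ (zpow_mem (C.mem i) (pairing c i a)) _ (C.el_mem a)
    calc n i * C.el (-a) * (n i)⁻¹ = (n i * C.el a * (n i)⁻¹)⁻¹ := by rw [el_neg]; group
      _ = _ := by rw [ha, ← h1, el_neg, pairing_neg', zpow_neg, mul_inv_rev]

theorem conj_el (i : I) (y : I → ℤ) : n i * C.el y * (n i)⁻¹ = C.el (sc c i y) := by
  rw [conj_el', sc, el_add, el_smul, el_sr]

theorem conj_el_inv (i : I) (y : I → ℤ) : (n i)⁻¹ * C.el y * n i = C.el (sc c i y) := by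
  have h1 := C.comm _ (R.sq_mem_T i) _ (conj_T' R (rp_simple cs R.nsys i) (C.el_mem y))
  rw [← conj_el]
  calc (n i)⁻¹ * C.el y * n i = (n i * n i * ((n i)⁻¹ * C.el y * n i)) * (n i * n i)⁻¹ := by rw [h1]; group
    _ = _ := by group

theorem conj_word (ω : List I) (y : I → ℤ) :
    (ω.map n).prod * C.el y * (ω.map n).prod⁻¹ = C.el (scw c ω y) := by
  induction ω with
  | nil => simp [scw_nil]
  | cons i ω ih => rw [scw_cons, ← conj_el, ← ih, List.map_cons, List.prod_cons]; group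

theorem gen' {t : Y} (ht : t ∈ T) : ∃ z ∈ Subgroup.center Y, Odd (orderOf z) ∧ ∃ y, t = z * C.el y := by
  obtain ⟨z, hz, ho, y, hy, rfl⟩ := C.gen t ht
  refine ⟨z, hz, ho, ?_⟩
  suffices h1 : ∃ v, y = C.el v by
    obtain ⟨v, rfl⟩ := h1
    exact ⟨v, rfl⟩
  clear ht
  induction hy using Subgroup.closure_induction with
  | mem y hy =>
    obtain ⟨i, rfl⟩ := hy
    exact ⟨sr i, (C.el_sr i).symm⟩
  | one => exact ⟨0, C.el_zero.symm⟩
  | mul a b _ _ ha hb =>
    obtain ⟨v, rfl⟩ := ha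
    obtain ⟨v', rfl⟩ := hb
    exact ⟨v + v', (C.el_add _ _).symm⟩
  | inv a _ ha =>
    obtain ⟨v, rfl⟩ := ha
    exact ⟨-v, (C.el_neg _).symm⟩

/-- the value of a character at `el y` -/
noncomputable def vl (mu : ↥T →* ℂˣ) (y : I → ℤ) : ℂˣ := mu ⟨C.el y, C.el_mem y⟩

theorem vl_eq (mu : ↥T →* ℂˣ) {t : Y} (ht : t ∈ T) {y : I → ℤ} (e : t = C.el y) : mu ⟨t, ht⟩ = C.vl mu y := by
  subst e
  rfl

theorem vl_zero (mu : ↥T →* ℂˣ) : C.vl mu 0 = 1 := by
  rw [← C.vl_eq mu (one_mem T) C.el_zero.symm]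
  exact map_one mu

theorem vl_add (mu : ↥T →* ℂˣ) (a b : I → ℤ) : C.vl mu (a + b) = C.vl mu a * C.vl mu b := by
  rw [vl, vl, vl, ← map_mul]
  exact congrArg mu (Subtype.ext (C.el_add a b))

theorem vl_smul (mu : ↥T →* ℂˣ) (k : ℤ) (a : I → ℤ) : C.vl mu (k • a) = C.vl mu a ^ k := by
  rw [vl, vl, ← map_zpow]
  exact congrArg mu (Subtype.ext (C.el_smul k a))

theorem vl_sr (mu : ↥T →* ℂˣ) (i : I) : C.vl mu (sr i) = mu ⟨g i, C.mem i⟩ :=
  (C.vl_eq mu _ (C.el_sr i).symm).symm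

theorem vl_prod (mu : ↥T →* ℂˣ) (y : I → ℤ) : C.vl mu y = ∏ i, mu ⟨g i, C.mem i⟩ ^ y i := by
  induction y using vec_ind with
  | h0 => simp [vl_zero]
  | h1 j =>
    rw [vl_sr, Finset.prod_eq_single j, sr_self, zpow_one]
    · intro i _ hi
      rw [sr_ne hi, zpow_zero]
    · intro hj
      exact absurd (Finset.mem_univ j) hj
  | ha a b ha hb => simp only [vl_add, ha, hb, Pi.add_apply, zpow_add, Finset.prod_mul_distrib]
  | hn a ha =>
    rw [← neg_one_smul ℤ a, vl_smul, ha]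
    simp only [zpow_neg, zpow_one, neg_smul, one_smul, Pi.neg_apply, Finset.prod_inv_distrib]

theorem vl_cjl (mu : ↥T →* ℂˣ) (i : I) (y : I → ℤ) :
    C.vl (cjl (rp_simple cs R.nsys i).mem_normalizer mu) y = C.vl mu (sc c i y) :=
  C.vl_eq mu _ (C.conj_el_inv i y)

/-- the values are invariant under the words in the stabiliser -/
theorem vl_word {mu : ↥T →* ℂˣ} {ω : List I} (hw : cs.wordProd ω ∈ Wst R mu) (y : I → ℤ) :
    C.vl mu (scw c ω y) = C.vl mu y := by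
  have hk := rp_word R ω
  have e : (ω.map n).prod⁻¹ * C.el (scw c ω y) * (ω.map n).prod = C.el y := by rw [← conj_word]; group
  have h1 := cj_of_mem R C.comm hw hk _ (C.el_mem (scw c ω y)) (by rw [e]; exact C.el_mem y)
  exact h1.trans (C.vl_eq mu _ e)

/-- the orbit of a generator of `T` on `X_i - 1` -/
theorem orbit (i : I) {x : Y} (hx : x ∈ X (sr i)) (hx1 : x ≠ 1) : orderOf (g i) + 1 = Nat.card (X (sr i)) ∧
    ∀ u ∈ X (sr i), u ≠ 1 → ∃ k < orderOf (g i), tx R i u = tx R i x * g i ^ k ∧ (k = 0 → u = x) := by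
  obtain ⟨j, hj⟩ := C.sur i
  have h1 : ∀ k : ℕ, tx R i (g j ^ k * x * (g j ^ k)⁻¹) = tx R i x * g i ^ k := fun k => by
    rw [tx_conj R i (pow_mem (C.mem j) k) hx hx1 C.comm, ← conj_pow, C.conj, hj, zpow_one,
      Commute.mul_pow (C.comm _ (C.mem j) _ (C.mem i)), C.comm _ (pow_mem (C.mem j) k) _ (pow_mem (C.mem i) k),
      mul_inv_cancel_right]
  have h2 : ∀ k : ℕ, g j ^ k * x * (g j ^ k)⁻¹ ≠ 1 := fun k e => hx1 (by
    have : x = (g j ^ k)⁻¹ * (g j ^ k * x * (g j ^ k)⁻¹) * g j ^ k := by group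
    rw [this, e]; group)
  let f : Option (Fin (orderOf (g i))) → X (sr i) := fun
    | none => 1
    | some k => ⟨g j ^ (k : ℕ) * x * (g j ^ (k : ℕ))⁻¹, X_conj R (isRoot_sr cs h i) (pow_mem (C.mem j) k) hx⟩
  have hf : Function.Injective f := by
    rintro (_ | a) (_ | b) e
    · rfl
    · exact absurd (congrArg Subtype.val e).symm (h2 b)
    · exact absurd (congrArg Subtype.val e) (h2 a)
    · have e1 : g j ^ (a : ℕ) * x * (g j ^ (a : ℕ))⁻¹ = g j ^ (b : ℕ) * x * (g j ^ (b : ℕ))⁻¹ := congrArg Subtype.val e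
      have e2 := h1 a
      rw [e1, h1 b] at e2
      exact congrArg some (Fin.ext (pow_injOn_Iio_orderOf a.2 b.2 (mul_left_cancel e2).symm))
  have hcd : Nat.card (Option (Fin (orderOf (g i)))) = orderOf (g i) + 1 := by simp
  have h3 : orderOf (g i) + 1 = Nat.card (X (sr i)) :=
    le_antisymm (hcd ▸ Nat.card_le_card_of_injective f hf) (C.card i)
  refine ⟨h3, fun u hu hu1 => ?_⟩
  obtain ⟨_ | k, e⟩ := ((Nat.bijective_iff_injective_and_card f).2 ⟨hf, hcd.trans h3⟩).2 ⟨u, hu⟩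
  · exact absurd (congrArg Subtype.val e).symm hu1
  · have e1 : g j ^ (k : ℕ) * x * (g j ^ (k : ℕ))⁻¹ = u := congrArg Subtype.val e
    refine ⟨k, k.2, by rw [← e1, h1], fun h0 => ?_⟩
    rw [← e1, h0]
    group

theorem order (i : I) : orderOf (g i) + 1 = Nat.card (X (sr i)) := by
  obtain ⟨x, hx, hx1⟩ := exists_ne_one R i
  exact (C.orbit i hx hx1).1

theorem even_order (hp : p.Prime) (hp2 : p ≠ 2) (i : I) : Even (orderOf (g i)) := by
  have : Fact p.Prime := ⟨hp⟩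
  obtain ⟨k, hk⟩ := (IsPGroup.iff_card (p := p)).1 (R.pgrp i)
  have h1 : Odd (orderOf (g i) + 1) := by
    rw [C.order, hk]
    exact (hp.odd_of_ne_two hp2).pow
  exact Nat.odd_add_one.1 h1 |> Nat.not_odd_iff_even.1

theorem zpow_ne (hp : p.Prime) (hp2 : p ≠ 2) (i : I) {k : ℤ} (hk : Odd k) : g i ^ k ≠ 1 := fun e =>
  (Int.not_even_iff_odd.2 hk) (((Int.even_coe_nat _).2 (C.even_order hp hp2 i)).trans_dvd
    (orderOf_dvd_iff_zpow_eq_one.2 e))

/-- an element of `T` which commutes with `n i` centralises `X_i` -/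
theorem cen_of_comm {i : I} {t : Y} (ht : t ∈ T) (e : n i * t * (n i)⁻¹ = t) {u : Y} (hu : u ∈ X (sr i)) :
    t * u = u * t := by
  by_cases hu1 : u = 1
  · rw [hu1, mul_one, one_mul]
  have h1 := tx_conj R i ht hu hu1 C.comm
  obtain ⟨k, hk, h2, h3⟩ := (C.orbit i hu hu1).2 _ (X_conj R (isRoot_sr cs h i) ht hu) fun e => hu1 (by
    have : u = t⁻¹ * (t * u * t⁻¹) * t := by group
    rw [this, e]; group)
  rw [e, mul_inv_cancel, h2, mul_left_cancel_iff, ← pow_zero (g i)] at h1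
  exact mul_inv_eq_iff_eq_mul.1 (h3 (pow_injOn_Iio_orderOf hk (orderOf_pos _) h1))

/-- **good reflections** -/
theorem zet_ne {i : I} {mu : ↥T →* ℂˣ} (h1 : mu ⟨g i, C.mem i⟩ = 1) : zet R i mu ≠ 0 := by
  classical
  let _ := Fintype.ofFinite ↥(X (sr i))
  obtain ⟨u, hu, hu1⟩ := exists_ne_one R i
  unfold zet
  have h2 : ∀ x : ↥(X (sr i)), (if (x : Y) = 1 then (0 : ℂ) else ((mu ⟨tx R i x, tx_mem R i x⟩ : ℂˣ) : ℂ)) =
      ((if (x : Y) = 1 then 0 else 1 : ℕ) : ℂ) * ((mu ⟨tx R i u, tx_mem R i u⟩ : ℂˣ) : ℂ) := fun x => by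
    split_ifs with hx
    · simp
    · obtain ⟨k, -, h3, -⟩ := (C.orbit i hu hu1).2 x x.2 hx
      have h4 : (⟨tx R i x, tx_mem R i x⟩ : ↥T) = ⟨tx R i u, tx_mem R i u⟩ * ⟨g i, C.mem i⟩ ^ k := Subtype.ext h3
      rw [h4, map_mul, map_pow, h1]
      simp
  rw [Finset.sum_congr rfl fun x _ => h2 x, ← Finset.sum_mul, ← Nat.cast_sum]
  refine mul_ne_zero (Nat.cast_ne_zero.2 fun h0 => ?_) (Units.ne_zero _)
  have h3 := Finset.sum_eq_zero_iff.1 h0 ⟨u, hu⟩ (Finset.mem_univ _)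
  rw [if_neg hu1] at h3
  exact one_ne_zero h3

theorem simple_mem_Rg {i : I} {mu : ↥T →* ℂˣ} (h1 : mu ⟨g i, C.mem i⟩ = 1) : cs.simple i ∈ Rg R mu := by
  have h2 := mem_Rg R (lam := mu) (rp_one (cs := cs) (hN := R.nsys)) (i := i) (C.zet_ne (by
    rw [← h1]
    exact congrArg mu (Subtype.ext (by simp))))
  rwa [inv_one, one_mul, mul_one] at h2

theorem WJ_le_Rg {J : Set I} {mu : ↥T →* ℂˣ} (h1 : ∀ i ∈ J, mu ⟨g i, C.mem i⟩ = 1) : WJ cs J ≤ Rg R mu := by
  refine (Subgroup.closure_le _).2 ?_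
  rintro _ ⟨i, hi, rfl⟩
  exact C.simple_mem_Rg (h1 i hi)

/-- the odd part of `|T|` -/
theorem exists_odd : ∃ r a : ℕ, Odd r ∧ ∀ t ∈ T, (t ^ r) ^ 2 ^ a = 1 := by
  obtain ⟨a, r, hr, e⟩ := Nat.exists_eq_two_pow_mul_odd (Nat.card_pos (α := ↥T)).ne'
  refine ⟨r, a, hr, fun t ht => ?_⟩
  rw [← pow_mul, mul_comm, ← e]
  exact congrArg Subtype.val (pow_card_eq_one' (x := (⟨t, ht⟩ : ↥T)))

theorem nofix (hp : p.Prime) (hp2 : p ≠ 2) : H69.OQ.NoFix cs h T X := by
  rintro _ ⟨w, i, rfl⟩ u hu hcm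
  obtain ⟨ω, hω⟩ := cs.wordProd_surjective w⁻¹
  obtain ⟨j, hj⟩ := C.sur i
  obtain ⟨r, a, hr, ha⟩ := C.exists_odd
  have hk := rp_word R ω
  by_contra hu1
  have ht := conj_T' R hk (C.mem j)
  have h1 := comm_of_fix_word R C.comm (ω := ω) (i := i) ((isRoot_sr cs h i).act w)
    (by rw [← rep_word cs h, hω, rep_inv_apply]) (pow_mem ht r) hu hu1 (hcm _ (pow_mem ht r) ⟨a, ha _ ht⟩)
  rw [← conj_pow, show (ω.map n).prod * ((ω.map n).prod⁻¹ * g j * (ω.map n).prod) * (ω.map n).prod⁻¹ = g j by group,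
    ← conj_pow, C.conj, hj, zpow_one, Commute.mul_pow (C.comm _ (C.mem j) _ (C.mem i)), mul_eq_left] at h1
  exact C.zpow_ne hp hp2 i ((Int.odd_coe_nat r).2 hr) (by rw [zpow_natCast, h1])

/-- `τ` fixes `mu` if it fixes the values at the generators -/
theorem fix_tau {τ : ℂ ≃+* ℂ} (hτ : Two τ) {mu : ↥T →* ℂˣ}
    (h1 : ∀ i, τ (mu ⟨g i, C.mem i⟩ : ℂˣ) = (mu ⟨g i, C.mem i⟩ : ℂˣ)) (t : ↥T) : τ (mu t : ℂˣ) = (mu t : ℂˣ) := by
  obtain ⟨z, -, ho, y, e⟩ := C.gen' t.2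
  have hz : z ∈ T := by
    rw [eq_mul_inv_of_mul_eq e.symm]
    exact mul_mem t.2 (inv_mem (C.el_mem y))
  have e1 : t = ⟨z, hz⟩ * ⟨C.el y, C.el_mem y⟩ := Subtype.ext e
  have e2 : mu ⟨C.el y, C.el_mem y⟩ = _ := C.vl_prod mu y
  rw [e1, map_mul, Units.val_mul, map_mul, hτ _ _ ho, e2]
  · simp only [Units.coe_prod, Units.val_zpow_eq_zpow_val, map_prod, map_zpow₀, h1]
  · rw [← Units.val_pow_eq_pow_val, ← map_pow, show (⟨z, hz⟩ : ↥T) ^ orderOf z = 1 from
      Subtype.ext (pow_orderOf_eq_one z), map_one, Units.val_one]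

theorem cen_PosJ {J : Set I} {t : Y} (ht : t ∈ T) (hJ : ∀ j ∈ J, n j * t * (n j)⁻¹ = t) :
    ∀ x ∈ PosJ cs h J, ∀ u ∈ X x, t * u = u * t := by
  intro x hx u hu
  obtain ⟨w, hw, j, hj, rfl⟩ := exists_of_mem_RootsJ (PosJ_subset J hx)
  have key : ∃ k, Rp cs R.nsys w k ∧ Commute k t := by
    clear hu hx
    induction hw using Subgroup.closure_induction with
    | mem w hw =>
      obtain ⟨i, hi, rfl⟩ := hw
      exact ⟨n i, rp_simple cs R.nsys i, mul_inv_eq_iff_eq_mul.1 (hJ i hi)⟩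
    | one => exact ⟨1, rp_one, Commute.one_left t⟩
    | mul a b _ _ ha hb =>
      obtain ⟨k, h1, h2⟩ := ha
      obtain ⟨k', h3, h4⟩ := hb
      exact ⟨k * k', h1.mul h3, h2.mul_left h4⟩
    | inv a _ ha =>
      obtain ⟨k, h1, h2⟩ := ha
      exact ⟨k⁻¹, h1.inv, h2.inv_left⟩
  obtain ⟨k, hk, hc⟩ := key
  have h1 := R.conj_mem' hk hx.1 hu
  rw [rep_inv_apply] at h1
  have h2 := C.cen_of_comm ht (hJ j hj) h1
  calc t * u = k * (k⁻¹ * t) * u := by group
    _ = k * (t * (k⁻¹ * u * k)) * k⁻¹ := by rw [hc.inv_left.eq]; group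
    _ = u * (k * t) * k⁻¹ := by rw [h2]; group
    _ = u * t := by rw [hc.eq]; group

end Tor

end Cfsg.Agent.ODD.Pos
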