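import Cfsg.Agent.ODD.Pos.Tw

/-!
# ODD, box POS: squares in the stabilisers, types `E₆` and `²E₆` (helper60)

* `SqC R`: a character of `T` with a stabiliser of odd index has a conjugate `nu` with `Wst R nu ≤ Rg R nu`;
* `E6.sqC`, `Tw.sqC`; `e6_data`, `tw_data`: the data of the covers with `SqC`.
-/

set_option autoImplicit false
set_option linter.unusedSectionVars false

open Cfsg

namespace Cfsg.Agent.ODD.Pos

open CoxeterSystem Cfsg.Agent.ChevalleyStructure.CoxeterGeom Cfsg.Agent.Tits.Roots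
  Cfsg.Agent.Nodes.Reps Cfsg.Agent.Nodes.BNOf Cfsg.Agent.Nodes.Bruhat Cfsg.Agent.H684.OQ Cfsg.Agent.H381.OQ
  Cfsg.Agent.ODD.PS

section gen

variable {I W Y : Type} [Fintype I] [DecidableEq I] [Group W] [Finite W] [Group Y] [Finite Y]
  {M : CoxeterMatrix I} {cs : CoxeterSystem M W} {A : I → I → ℤ} {h : IsCartan M A} {p : ℕ} {T : Subgroup Y}
  {n : I → Y} {X : (I → ℤ) → Subgroup Y}

/-- the stabilisers of odd index are generated by good reflections, up to conjugacy -/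
def SqC (R : RGD cs h p T n X) : Prop := ∀ lam : ↥T →* ℂˣ, Odd (Wst R lam).index →
  ∃ (nu : ↥T →* ℂˣ) (g : Y), g ∈ NN cs R.nsys ∧ Cj T nu lam g ∧ Wst R nu ≤ Rg R nu

theorem SqC.sq {R : RGD cs h p T n X} (H : SqC R) {lam : ↥T →* ℂˣ} (hl : Odd (Wst R lam).index) :
    ∃ (nu : ↥T →* ℂˣ) (g : Y), g ∈ NN cs R.nsys ∧ Cj T nu lam g ∧ ∀ w ∈ Wst R nu, w * w ∈ Rg R nu := by
  obtain ⟨nu, g, h1, h2, h3⟩ := H lam hl
  exact ⟨nu, g, h1, h2, fun w hw => h3 (mul_mem hw hw)⟩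

end gen

variable {W Y : Type} [Group W] [Finite W] [Group Y] [Finite Y] {p : ℕ} {T : Subgroup Y}

theorem E6.sqC {M : CoxeterMatrix (Fin 6)} {cs : CoxeterSystem M W} {A : Fin 6 → Fin 6 → ℤ} (hA : A = E6.A6)
    {h : IsCartan M A} {n g : Fin 6 → Y} {X : (Fin 6 → ℤ) → Subgroup Y} {R : RGD cs h p T n X}
    (C : Tor R (-E6.A6) g) : SqC R := by
  subst hA
  intro lam hl
  obtain ⟨mu, ⟨w, k, hk, h1⟩, h2⟩ := E6.cls0 C hl
  exact ⟨mu, k, mem_NN.2 ⟨w, hk⟩, h1, E6.wst_le C h2⟩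

theorem Tw.sqC {M : CoxeterMatrix (Fin 4)} {cs : CoxeterSystem M W} {h : IsCartan M Nodes.RGDTwE6.A}
    {n g : Fin 4 → Y} {X : (Fin 4 → ℤ) → Subgroup Y} {R : RGD cs h p T n X} {q : ℕ} (C : Tor R (Cv.twc q) g)
    (o3 : g 3 ^ (((q : ℤ) + 1) * (q - 1)) = 1) : SqC R := by
  intro lam hl
  obtain ⟨mu, ⟨w, k, hk, h1⟩, h2, h3⟩ := Tw.cls0 C o3 hl
  exact ⟨mu, k, mem_NN.2 ⟨w, hk⟩, h1, Tw.wst_le C h2 h3⟩

section inst

open Matrix Cfsg.Lie Cfsg.Agent.ODD.Cv Cfsg.Agent.ODD.PX Cfsg.Agent.H310.OQ Cfsg.Agent.Nodes.RGDLift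
  Cfsg.Agent.ChevalleyStructure Cfsg.Agent.ChevalleyStructure.RootVec Cfsg.Agent.Nodes.RGDChev

/-- the datum of a cover of `E₆(q)` -/
theorem e6_data {K : Fam} (c : Cov K Y) {F : Type} [Field F] [Fintype F]
    (e : Y ⧸ Subgroup.center Y ≃* chevE6.group F) (p : ℕ) [CharP F p] (hp2 : p ≠ 2)
    (cs : CoxeterSystem CoxeterMatrix.E₆ W) :
    ∃ (Φ : Fin 6 → SpecialLinearGroup (Fin 2) F →* Y) (S : InS p cs hp6.isCartan
      (((chevE6.diagonalSubgroup F).subgroupOf (chevE6.group F)).comap (prj e))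
      (fun x => lft p (prj e) ((XV chevE6 6 F x).subgroupOf (chevE6.group F))) (k := fun _ => F) Φ),
      (∀ i g, prj e (Φ i g) = phi hp6 F i g) ∧ SqC S.inp.rgd := by
  obtain ⟨γ, hγ⟩ := IsCyclic.exists_generator (α := Fˣ)
  obtain ⟨Φ, S, h1, -, C⟩ := E6.exists_tor c e hp2 cs hγ
  exact ⟨Φ, S, h1, E6.sqC E6.cartan_eq C⟩

/-- the datum of a cover of `²E₆(q)` -/
theorem tw_data {K : Fam} (c : Cov K Y) {F : Type} [Field F] [Fintype F] {q : ℕ} {φ : F →+* F} (hq : IsPrimePow q)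
    (hF : Fintype.card F = q ^ 2) (e : Y ⧸ Subgroup.center Y ≃* twistedE6 F q) (hφ : ∀ x, φ x = x ^ q)
    (hqq : ∀ t : F, (t ^ q) ^ q = t) (p : ℕ) [CharP F p] (hp2 : p ≠ 2) [Finite CoxeterMatrix.F₄.Group] :
    letI := k4Field φ
    ∃ (Φ : ∀ i, SpecialLinearGroup (Fin 2) (k4 φ i) →* Y)
      (S : InS p CoxeterMatrix.F₄.toCoxeterSystem Nodes.RGDTwE6.isCartan ((Nodes.RGDTwE6.T F q).comap (prj e))
        (fun z => lft p (prj e) (Nodes.RGDTwE6.X φ q z)) Φ), SqC S.inp.rgd := by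
  let _ := k4Field φ
  obtain ⟨Φ, ω, S, -, C, ho⟩ := Tw.exists_tor c hq hF e hφ hqq p hp2
  refine ⟨Φ, S, Tw.sqC C ?_⟩
  have h2 : ((q ^ 2 - 1 : ℕ) : ℤ) = (q + 1) * (q - 1) := by
    rw [Nat.cast_sub (Nat.one_le_pow _ _ hq.one_lt.le)]
    push_cast
    ring
  rw [← orderOf_dvd_iff_zpow_eq_one, ho 3]
  exact dvd_of_eq h2

end inst

end Cfsg.Agent.ODD.Pos
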