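import Cfsg.Agent.ODD.Pos.E6

/-!
# ODD, box POS: `²E₆(q)`, `q` odd, and its covers (helper60)

* `Tw.cls0`: up to conjugacy a character of `T` with a stabiliser of odd index is trivial on `g i`, `i ≠ 3`, and its
  value at `g 3` has order dividing `q + 1`;
* `Tw.qa`: `QA` for a root group datum of type `F₄` with `Tor R (twc q) g`;
* `Tw.exists_tor`: the datum of a cover of `²E₆(q)`; `boxTw`.
-/

set_option autoImplicit false
set_option linter.unusedSectionVars false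

open Cfsg

namespace Cfsg.Agent.ODD.Pos

open CoxeterSystem Cfsg.Agent.ChevalleyStructure.CoxeterGeom Cfsg.Agent.Tits.Roots Cfsg.Agent.Tits.Core
  Cfsg.Agent.Nodes.Reps Cfsg.Agent.Nodes.BNOf Cfsg.Agent.Nodes.Bruhat Cfsg.Agent.Nodes.LeviDec
  Cfsg.Agent.Nodes.StabComb Cfsg.Agent.H684.OQ Cfsg.Agent.H381.OQ Cfsg.Agent.ODD.PS Cfsg.Agent.ODD.Red

section gen

variable {I W Y : Type} [Fintype I] [DecidableEq I] [Group W] [Finite W] [Group Y] [Finite Y]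
  {M : CoxeterMatrix I} {cs : CoxeterSystem M W} {A : I → I → ℤ} {h : IsCartan M A} {p : ℕ} {T : Subgroup Y}
  {n : I → Y} {X : (I → ℤ) → Subgroup Y} {R : RGD cs h p T n X} {c : I → I → ℤ} {g : I → Y}

/-- a reflection in the stabiliser -/
theorem Tor.refl_val (C : Tor R c g) {mu : ↥T →* ℂˣ} {ω : List I} {i : I}
    (hw : cs.wordProd (ω ++ [i] ++ ω.reverse) ∈ Wst R mu) : C.vl mu (scw c ω (sr i)) = 1 := by
  rw [wordProd_append, wordProd_append, wordProd_reverse, ← inv_inv (cs.wordProd ω), inv_inv (cs.wordProd ω)⁻¹] at hw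
  obtain ⟨j, hj⟩ := C.sur i
  have h1 := C.sub_mem_ker (mem_Wst_cjl R (rp_word R ω).inv hw) (sr j)
  rw [scw_cons, scw_nil, sc, pairing_sr, hj, one_smul, add_sub_cancel_left] at h1
  rw [← C.vl_rp mu (rp_word R ω).inv]
  exact h1

theorem Tor.vl_tree (C : Tor R c g) {mu : ↥T →* ℂˣ} {ω : List I} {w : W} {k : Y} (hk : Rp cs R.nsys w k)
    (hw : cs.wordProd ω * w ∈ Wst R mu) (y : I → ℤ) : C.vl (cjl hk.mem_normalizer mu) y = C.vl mu (scw c ω y) := by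
  have hl := rp_word R ω
  have h1 := cjl_mul (R := R) (hl.mul hk) hl.inv mu
  rw [(cjl_eq_iff R (hl.mul hk)).2 (cj_of_mem R C.comm hw (hl.mul hk))] at h1
  rw [← C.vl_rp mu hl.inv, ← h1]
  congr 2
  rw [inv_mul_cancel_left]

end gen

namespace Tw

open Cfsg.Agent.ODD.Cv

/-- the roots -/
def L48 : List (Fin 4 → ℤ) :=
  [![1, 0, 0, 0], ![0, 1, 0, 0], ![0, 0, 1, 0], ![0, 0, 0, 1], ![-1, 0, 0, 0], ![1, 1, 0, 0], ![0, -1, 0, 0],
   ![0, 1, 2, 0], ![0, 1, 1, 0], ![0, 0, -1, 0], ![0, 0, 1, 1], ![0, 0, 0, -1], ![-1, -1, 0, 0], ![1, 1, 2, 0],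
   ![0, -1, -2, 0], ![0, 1, 2, 2], ![1, 1, 1, 0], ![0, 1, 1, 1], ![0, -1, -1, 0], ![0, 0, -1, -1], ![-1, -1, -2,
   0], ![1, 2, 2, 0], ![1, 1, 2, 2], ![0, -1, -2, -2], ![1, 1, 1, 1], ![0, 1, 2, 1], ![-1, -1, -1, 0], ![0, -1,
   -1, -1], ![-1, -2, -2, 0], ![-1, -1, -2, -2], ![1, 2, 2, 2], ![1, 1, 2, 1], ![-1, -1, -1, -1], ![0, -1, -2,
   -1], ![-1, -2, -2, -2], ![1, 2, 4, 2], ![1, 2, 2, 1], ![-1, -1, -2, -1], ![-1, -2, -4, -2], ![1, 3, 4, 2],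
   ![1, 2, 3, 1], ![-1, -2, -2, -1], ![-1, -3, -4, -2], ![2, 3, 4, 2], ![1, 2, 3, 2], ![-1, -2, -3, -1], ![-2,
   -3, -4, -2], ![-1, -2, -3, -2]]

theorem L48_cl : ∀ v ∈ L48, ∀ i, sc (-Nodes.RGDTwE6.A) i v ∈ L48 := by decide +kernel

theorem L48_anti : ∀ x ∈ L48, 0 < x 3 → (∀ j, j ≠ 3 → pairing Nodes.RGDTwE6.A j x ≤ 0) →
    x = sr 3 ∨ x = ![0, 1, 2, 2] ∨ x = ![1, 2, 3, 2] := by decide +kernel

/-- the exponents of the element -/
def y4 (q : ℕ) : Fin 4 → ℤ := ![3, 6, 4 * q + 5, 2 * q + 4]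

theorem pr0 (q : ℕ) (a b c d : ℤ) : pairing (twc q) 0 ![a, b, c, d] = b - 2 * a := by
  simp [pairing, twc, Fin.sum_univ_four]; ring

theorem pr1 (q : ℕ) (a b c d : ℤ) : pairing (twc q) 1 ![a, b, c, d] = a + c - 2 * b := by
  simp [pairing, twc, Fin.sum_univ_four]; ring

theorem pr2 (q : ℕ) (a b c d : ℤ) : pairing (twc q) 2 ![a, b, c, d] = (q + 1) * b + d - 2 * c := by
  simp [pairing, twc, Fin.sum_univ_four]; ring

theorem pr3 (q : ℕ) (a b c d : ℤ) : pairing (twc q) 3 ![a, b, c, d] = c - 2 * d := by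
  simp [pairing, twc, Fin.sum_univ_four]; ring

theorem sc0 (q : ℕ) (a b c d : ℤ) : sc (twc q) 0 ![a, b, c, d] = ![b - a, b, c, d] := by
  rw [sc, pr0]; funext k; fin_cases k <;> simp [sr]; ring

theorem sc1 (q : ℕ) (a b c d : ℤ) : sc (twc q) 1 ![a, b, c, d] = ![a, a + c - b, c, d] := by
  rw [sc, pr1]; funext k; fin_cases k <;> simp [sr]; ring

theorem sc2 (q : ℕ) (a b c d : ℤ) : sc (twc q) 2 ![a, b, c, d] = ![a, b, (q + 1) * b + d - c, d] := by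
  rw [sc, pr2]; funext k; fin_cases k <;> simp [sr]; ring

theorem sc3 (q : ℕ) (a b c d : ℤ) : sc (twc q) 3 ![a, b, c, d] = ![a, b, c, c - d] := by
  rw [sc, pr3]; funext k; fin_cases k <;> simp [sr]; ring

theorem sr0 : (sr 0 : Fin 4 → ℤ) = ![1, 0, 0, 0] := by decide +kernel

theorem sr1 : (sr 1 : Fin 4 → ℤ) = ![0, 1, 0, 0] := by decide +kernel

theorem sr2 : (sr 2 : Fin 4 → ℤ) = ![0, 0, 1, 0] := by decide +kernel

theorem sr3 : (sr 3 : Fin 4 → ℤ) = ![0, 0, 0, 1] := by decide +kernel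

variable {W Y : Type} [Group W] [Finite W] [Group Y] [Finite Y]
  {M : CoxeterMatrix (Fin 4)} {cs : CoxeterSystem M W} {h : IsCartan M Nodes.RGDTwE6.A} {p : ℕ} {T : Subgroup Y}
  {n : Fin 4 → Y} {X : (Fin 4 → ℤ) → Subgroup Y} {R : RGD cs h p T n X} {g : Fin 4 → Y} {q : ℕ}

theorem vl4 (C : Tor R (twc q) g) (mu : ↥T →* ℂˣ) (a b c d : ℤ) : C.vl mu ![a, b, c, d] =
    mu ⟨g 0, C.mem 0⟩ ^ a * mu ⟨g 1, C.mem 1⟩ ^ b * mu ⟨g 2, C.mem 2⟩ ^ c * mu ⟨g 3, C.mem 3⟩ ^ d := by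
  rw [C.vl_prod, Fin.prod_univ_four]
  rfl

theorem vl3 (C : Tor R (twc q) g) {mu : ↥T →* ℂˣ} (h1 : ∀ i, i ≠ 3 → mu ⟨g i, C.mem i⟩ = 1) (a b c d : ℤ) :
    C.vl mu ![a, b, c, d] = mu ⟨g 3, C.mem 3⟩ ^ d := C.vl_one h1 _

/-- **the characters with a stabiliser of odd index** -/
theorem cls0 (C : Tor R (twc q) g) (o3 : g 3 ^ (((q : ℤ) + 1) * (q - 1)) = 1) {lam : ↥T →* ℂˣ}
    (hl : Odd (Wst R lam).index) :
    ∃ mu, Cw R lam mu ∧ (∀ i, i ≠ 3 → mu ⟨g i, C.mem i⟩ = 1) ∧ mu ⟨g 3, C.mem 3⟩ ^ ((q : ℤ) + 1) = 1 := by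
  obtain ⟨mu, h1, h2⟩ := exists_words hl
    (L := [[], [1], [0, 1], [3, 2, 1, 2, 3, 0, 1]].map fun ω => ω ++ [2] ++ ω.reverse)
    (by decide +kernel) (by decide +kernel)
  have a1 := C.refl_val (h2 _ (List.mem_map_of_mem (a := []) (by simp)))
  have a2 := C.refl_val (h2 _ (List.mem_map_of_mem (a := [1]) (by simp)))
  have a3 := C.refl_val (h2 _ (List.mem_map_of_mem (a := [0, 1]) (by simp)))
  have a4 := C.refl_val (h2 _ (List.mem_map_of_mem (a := [3, 2, 1, 2, 3, 0, 1]) (by simp)))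
  simp only [scw_cons, scw_nil, sr2, sc0, sc1, sc2, sc3, vl4] at a1 a2 a3 a4
  have b2 : mu ⟨g 2, C.mem 2⟩ = 1 := by simpa using a1
  have b1 : mu ⟨g 1, C.mem 1⟩ = 1 := by simpa [b2] using a2
  have b0 : mu ⟨g 0, C.mem 0⟩ = 1 := by simpa [b1, b2] using a3
  refine ⟨mu, h1, fun i hi => ?_, ?_⟩
  · fin_cases i
    · exact b0
    · exact b1
    · exact b2
    · exact absurd rfl hi
  · have h3 : mu ⟨g 3, C.mem 3⟩ ^ (((q : ℤ) + 1) * (q - 1)) = 1 := by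
      rw [← map_zpow, show (⟨g 3, C.mem 3⟩ : ↥T) ^ (((q : ℤ) + 1) * (q - 1)) = 1 from Subtype.ext o3, map_one]
    rw [b0, b1, b2, one_zpow, one_zpow, one_zpow, one_mul, one_mul, one_mul, ← h3, ← mul_inv_eq_one, ← zpow_sub] at a4
    rw [← a4]
    congr 1
    ring

section cls

variable (C : Tor R (twc q) g) {mu : ↥T →* ℂˣ} (h1 : ∀ i, i ≠ 3 → mu ⟨g i, C.mem i⟩ = 1)
  (h2 : mu ⟨g 3, C.mem 3⟩ ^ ((q : ℤ) + 1) = 1)

include h1 h2

theorem reps (w : W) : ∃ ω ∈ ({[], [3], [3, 2]} : Set (List (Fin 4))), cs.wordProd ω * w ∈ Rg R mu := by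
  refine tree C (by simp) ?_ w
  rintro _ (rfl | rfl | rfl) i <;> fin_cases i <;>
    simp [scw_cons, scw_nil, sr0, sr1, sr2, sr3, sc2, sc3, vl3 C h1, h2]

theorem wst_le : Wst R mu ≤ Rg R mu := by
  intro w hw
  by_cases h0 : mu ⟨g 3, C.mem 3⟩ = 1
  · exact C.Rg_eq_top (fun i => if hi : i = 3 then hi ▸ h0 else h1 i hi) w
  obtain ⟨ω, h3, h4⟩ := reps C h1 h2 w
  have h5 := C.vl_word ((mul_mem_cancel_right hw).1 (Rg_le_Wst R C.comm mu h4)) (sr 2)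
  rcases h3 with rfl | rfl | rfl
  · rwa [wordProd_nil, one_mul] at h4
  · exact absurd (by simpa [scw_cons, scw_nil, sr2, sc2, sc3, vl3 C h1] using h5) h0
  · exact absurd (by simpa [scw_cons, scw_nil, sr2, sc2, sc3, vl3 C h1] using h5) h0

theorem zpow_val (a b : ℤ) : mu ⟨g 3, C.mem 3⟩ ^ ((q + 1) * a - b) = (mu ⟨g 3, C.mem 3⟩)⁻¹ ^ b := by
  rw [zpow_sub, zpow_mul, h2, one_zpow, one_mul, inv_zpow]

theorem cls : Cls C (y4 q) mu (mu ⟨g 3, C.mem 3⟩)⁻¹ where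
  le := wst_le C h1 h2
  val i := by
    by_cases hi : i = 3
    · subst hi
      rw [Subgroup.zpowers_inv]
      exact Subgroup.mem_zpowers _
    · rw [h1 i hi]
      exact one_mem _
  att := ⟨_, cw_cjl R mu (rp_simple cs R.nsys 3), by
    rw [C.vl_cjl, y4, sc3, vl3 C h1, ← zpow_one (mu _)⁻¹, ← zpow_val C h1 h2 2]
    congr 1
    ring⟩
  all nu hn := by
    obtain ⟨w, k, hk, h3⟩ := hn
    obtain ⟨ω, h4, h5⟩ := reps C h1 h2 w
    rw [← (cjl_eq_iff R hk).2 h3, C.vl_tree hk (Rg_le_Wst R C.comm mu h5), y4]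
    rcases h4 with rfl | rfl | rfl
    · refine Or.inr ⟨-1, ?_⟩
      rw [scw_nil, vl3 C h1, ← zpow_val C h1 h2 2]
      congr 1
      ring
    · refine Or.inl ?_
      rw [scw_cons, scw_nil, sc3, vl3 C h1, ← zpow_one (mu _)⁻¹, ← zpow_val C h1 h2 2]
      congr 1
      ring
    · refine Or.inl ?_
      rw [scw_cons, scw_cons, scw_nil, sc2, sc3, vl3 C h1, ← zpow_one (mu _)⁻¹, ← zpow_val C h1 h2 2]
      congr 1
      ring

end cls

/-- **type `²E₆`** -/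
theorem qa (hM : AH.Main) (hp : p.Prime) (hp2 : p ≠ 2) (hG : GG cs h T X = ⊤) (C : Tor R (twc q) g) (hq : Odd q)
    (o1 : g 1 ^ ((q : ℤ) - 1) = 1) (o2 : (orderOf (g 2) : ℤ) = (q + 1) * (q - 1))
    (o3 : g 3 ^ (((q : ℤ) + 1) * (q - 1)) = 1) : QA Y := by
  obtain ⟨m, hm⟩ := (Int.odd_coe_nat q).2 hq
  refine qa_of hM hp hp2 hG C (J := {i | i ≠ 3}) (y0 := y4 q) (fun j hj => ?_) (fun x hx h1 => ?_) fun lam hl => ?_
  · fin_cases j
    · show g 0 ^ pairing (twc q) 0 (y4 q) = 1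
      rw [y4, pr0]
      exact zpow_zero _
    · show g 1 ^ pairing (twc q) 1 (y4 q) = 1
      rw [y4, pr1, show (3 : ℤ) + (4 * q + 5) - 2 * 6 = (q - 1) * 4 by ring, zpow_mul, o1, one_zpow]
    · show g 2 ^ pairing (twc q) 2 (y4 q) = 1
      rw [y4, pr2, show ((q : ℤ) + 1) * 6 + (2 * q + 4) - 2 * (4 * q + 5) = 0 by ring, zpow_zero]
    · exact absurd rfl hj
  · obtain ⟨h2, -, k, hk, h3⟩ := hx
    rw [show k = 3 from not_not.1 hk] at h3
    rcases L48_anti x (root_mem L48_cl (by decide +kernel) h2) h3 h1 with rfl | rfl | rfl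
    · refine ⟨[], 3, rfl, fun r hr => C.zpow_ne hp hp2 3 (hr.mul ⟨-2, ?_⟩)⟩
      rw [scw_nil, y4, pr3]
      ring
    · refine ⟨[2, 3], 1, by decide +kernel, fun r hr => C.zpow_ne hp hp2 1 (hr.mul ⟨2 * q - 4, ?_⟩)⟩
      simp only [scw_cons, scw_nil, y4, sc2, sc3, pr1]
      ring
    · refine ⟨[1, 0, 3, 2, 1, 2, 3], 2, by decide +kernel, fun r hr e => ?_⟩
      have h4 := orderOf_dvd_iff_zpow_eq_one.2 e
      have h5 : pairing (twc q) 2 (scw (twc q) [1, 0, 3, 2, 1, 2, 3] (y4 q)) =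
          (q + 1) * (2 * (2 * q ^ 2 - 3 * m - 4) + 1) := by
        simp only [scw_cons, scw_nil, y4, sc0, sc1, sc2, sc3, pr2]
        rw [hm]
        ring
      rw [o2, h5, mul_left_comm, mul_dvd_mul_iff_left (by omega)] at h4
      exact Int.not_even_iff_odd.2 (hr.mul ⟨_, rfl⟩) (Even.trans_dvd ⟨m, by omega⟩ h4)
  · obtain ⟨mu, h1, h2, h3⟩ := cls0 C o3 hl
    exact ⟨mu, _, h1, cls C h2 h3⟩

end Tw

/-! ### the covers -/

section inst

open Matrix Cfsg.Lie Cfsg.Agent.ODD.Cv Cfsg.Agent.ODD.PX Cfsg.Agent.H310.OQ Cfsg.Agent.Nodes.RGDLift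
  Cfsg.Agent.ChevalleyStructure Cfsg.Agent.ChevalleyStructure.Elts
  Cfsg.Agent.ChevalleyStructure.CoxeterGeomTypes Cfsg.Agent.Nodes.RGDChev Cfsg.Agent.Nodes.RGDFold
  Cfsg.Agent.Nodes.RGDTwE6 Cfsg.Agent.H310.OQ.TwE6
open Cfsg.Agent.ChevalleyStructure.TwE6Basic (sg exists_frob)

variable {F : Type} [Field F] {q : ℕ} {φ : F →+* F}

/-- `Cv.tw_nodes` (the proof is that of helper4) with the injectivity on the rank one tori -/
theorem Tw.nodes [Fintype F] (hq : IsPrimePow q) (hF : Fintype.card F = q ^ 2) (hφ : ∀ x, φ x = x ^ q)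
    (hqq : ∀ t : F, (t ^ q) ^ q = t) (p : ℕ) [CharP F p] (h2 : (2 : F) ≠ 0) [Finite CoxeterMatrix.F₄.Group] :
    letI := k4Field φ
    ∃ (Φ : ∀ i, SpecialLinearGroup (Fin 2) (k4 φ i) →* ↥(twistedE6 F q)) (ω : ∀ i, (k4 φ i)ˣ),
      InS p CoxeterMatrix.F₄.toCoxeterSystem isCartan (Nodes.RGDTwE6.T F q) (Nodes.RGDTwE6.X φ q) Φ ∧
      (∀ i, Φ i ww = Nodes.RGDTwE6.nn hφ i) ∧ (∀ i c, c ∈ Subgroup.zpowers (ω i)) ∧
      (∀ i, orderOf (ω i) = ![q - 1, q - 1, q ^ 2 - 1, q ^ 2 - 1] i) ∧ (∀ i c, Φ i (dd c) = 1 → c = 1) ∧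
      ∀ i j, Φ i ww * Φ j (dd (ω j)) * (Φ i ww)⁻¹ = Φ j (dd (ω j)) * Φ i (dd (ω i)) ^ twc q i j := by
  let _ := k4Field φ
  have hq2 : 2 ≤ q := hq.two_le
  obtain ⟨Φ₀, N₀⟩ := tw_single hφ hqq (i := 0) (j₀ := 1) rfl (by
    rw [show chevE6.simple ((1 : Fin 6) : ℕ) = 46 by decide +kernel]; exact TwE6BN.single0)
  obtain ⟨Φ₁, N₁⟩ := tw_single hφ hqq (i := 1) (j₀ := 3) rfl (by
    rw [show chevE6.simple ((3 : Fin 6) : ℕ) = 39 by decide +kernel]; exact TwE6BN.single1)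
  obtain ⟨Φ₂, N₂⟩ := tw_pair hφ hqq (i := 2) (j₀ := 2) (j₁ := 4) rfl (by
    rw [show chevE6.simple ((2 : Fin 6) : ℕ) = 42 by decide +kernel,
      show chevE6.simple ((4 : Fin 6) : ℕ) = 37 by decide +kernel]; exact TwE6BN.pair2) rfl rfl
  obtain ⟨Φ₃, N₃⟩ := tw_pair hφ hqq (i := 3) (j₀ := 0) (j₁ := 5) rfl (by
    rw [show chevE6.simple ((0 : Fin 6) : ℕ) = 56 by decide +kernel,
      show chevE6.simple ((5 : Fin 6) : ℕ) = 36 by decide +kernel]; exact TwE6BN.pair3) rfl rfl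
  have _ : ∀ i, Finite (k4 φ i) :=
    Fin.cases (inferInstanceAs (Finite ↥(RingHom.eqLocusField φ (RingHom.id F))))
      (Fin.cases (inferInstanceAs (Finite ↥(RingHom.eqLocusField φ (RingHom.id F))))
        fun _ => inferInstanceAs (Finite F))
  let ψ : ∀ i, Fin 6 → (k4 φ i →+* F) := fun i => match i with
    | 0 => fun _ => (RingHom.eqLocusField φ (RingHom.id F)).subtype
    | 1 => fun _ => (RingHom.eqLocusField φ (RingHom.id F)).subtype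
    | 2 => psi6 φ
    | 3 => psi6 φ
  let Φ : ∀ i, SpecialLinearGroup (Fin 2) (k4 φ i) →* GL chevE6.Idx F := fun i => match i with
    | 0 => Φ₀
    | 1 => Φ₁
    | 2 => Φ₂
    | 3 => Φ₃
  have N : ∀ i, NodeX hp F Nodes.RGDTwE6.J (sg φ) (twistedE6 F q) i (ψ i) (Φ i) := fun i => match i with
    | 0 => N₀
    | 1 => N₁
    | 2 => N₂
    | 3 => N₃
  have S := inS_fold foldData (foldGrp hφ hqq) isCartan p h2 (by decide +kernel) N par H310.OQ.TwE6.cls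
  obtain ⟨γ, hγ⟩ := IsCyclic.exists_generator (α := Fˣ)
  have he : Fintype.card F - 1 = (q + 1) * (q - 1) := by
    obtain ⟨r, rfl⟩ : ∃ r, q = r + 1 := ⟨q - 1, by omega⟩
    rw [hF, Nat.add_sub_cancel]
    apply Nat.sub_eq_of_eq_add
    ring
  obtain ⟨ω₀, hω₀, hgen₀⟩ := exists_gen_fix hφ hq2 he hγ
  let ω : ∀ i, (k4 φ i)ˣ := fun i => match i with
    | 0 => ω₀
    | 1 => ω₀
    | 2 => γ
    | 3 => γ
  have hω : ∀ i c, c ∈ Subgroup.zpowers (ω i) := fun i => match i with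
    | 0 => hgen₀
    | 1 => hgen₀
    | 2 => hγ
    | 3 => hγ
  have hoγ : orderOf γ = q ^ 2 - 1 := by
    classical
    rw [orderOf_eq_card_of_forall_mem_zpowers hγ, Nat.card_eq_fintype_card, Fintype.card_units, hF]
  have ho₀ : orderOf ω₀ = q - 1 := by
    have h1 : Units.map (RingHom.eqLocusField φ (RingHom.id F)).subtype.toMonoidHom ω₀ = γ ^ (q + 1) :=
      Units.ext (hω₀.trans (Units.val_pow_eq_pow_val _ _).symm)
    rw [← orderOf_injective (Units.map (RingHom.eqLocusField φ (RingHom.id F)).subtype.toMonoidHom)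
      (Units.map_injective Subtype.val_injective) ω₀, h1, orderOf_pow' _ (by omega), hoγ, ← hF, he,
      Nat.gcd_mul_right_left, Nat.mul_div_cancel_left _ (by omega)]
  have hg0 : (γ : F) ≠ 0 := γ.ne_zero
  have hφγ : φ γ = (γ : F) ^ q := hφ _
  have hφφ : φ (φ γ) = γ := by rw [hφ, hφ, hqq]
  -- the images of the generators
  have v : ∀ i (s : Fin 6), s ∈ Nodes.RGDTwE6.J i → ψ i s (ω i) =
      ![(γ : F), γ * φ γ, γ, γ * φ γ, φ γ, φ γ] s := by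
    have e : ((ω₀ : RingHom.eqLocusField φ (RingHom.id F)) : F) = γ * φ γ := by rw [hω₀, hφγ, pow_succ']
    intro i s hs
    match i with
    | 0 =>
      obtain rfl : s = 1 := List.mem_singleton.1 hs
      exact e
    | 1 =>
      obtain rfl : s = 3 := List.mem_singleton.1 hs
      exact e
    | 2 =>
      have hs' : s = 2 ∨ s = 4 := by simpa [Nodes.RGDTwE6.J] using hs
      rcases hs' with rfl | rfl <;> rfl
    | 3 =>
      have hs' : s = 0 ∨ s = 5 := by simpa [Nodes.RGDTwE6.J] using hs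
      rcases hs' with rfl | rfl <;> rfl
  have hz1 : (γ : F) ^ ((q : ℤ) + 1) = γ * φ γ := by
    rw [zpow_add_one₀ hg0, zpow_natCast, hφγ, mul_comm]
  have hz2 : (φ γ) ^ ((q : ℤ) + 1) = γ * φ γ := by
    rw [← map_zpow₀, hz1, map_mul, hφφ, mul_comm]
  have hg1 : φ γ ≠ 0 := (map_ne_zero φ).2 hg0
  refine ⟨fun i => (N i).res, ω, S, fun i => Subtype.ext (N i).blk.w, hω, fun i => ?_, fun i c hc => ?_, fun i j => ?_⟩
  · match i with
    | 0 => exact ho₀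
    | 1 => exact ho₀
    | 2 => exact hoγ
    | 3 => exact hoγ
  · have h1 : ∀ s : Fin 6, ((Nodes.RGDTwE6.J i).map fun b : Fin 6 => ψ i b c ^ chevE6.cartan b (chevE6.simple s)).prod = 1 :=
      fun s => by
        have hs := NPerm.simple_lt hp.inList (lt_rank hp s)
        have h3 := prod_h_act hp (Nodes.RGDTwE6.J i) (fun b => ψ i b c) (fun b => (map_ne_zero _).2 c.ne_zero) hs 1
        rw [← (N i).d, show Φ i (dd c) = 1 from congrArg Subtype.val hc, one_mul, inv_one, mul_one, mul_one] at h3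
        have h4 := congrArg (· * xG hp.inList (chevE6.simple s) (-1 : F)) h3
        simp only [xG_add, add_neg_cancel, xG_zero] at h4
        exact add_neg_eq_zero.1 ((xG_eq_one_iff hp.inList hs _).1 h4.symm)
    simp only [tw_cart] at h1
    have h3 : ∃ b, ψ i b c = 1 := by
      match i with
      | 0 => exact ⟨1, by simpa [Nodes.RGDTwE6.J] using h1 3⟩
      | 1 => exact ⟨3, by simpa [Nodes.RGDTwE6.J] using h1 1⟩
      | 2 => exact ⟨2, by simpa [Nodes.RGDTwE6.J] using h1 0⟩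
      | 3 => exact ⟨0, by simpa [Nodes.RGDTwE6.J] using h1 2⟩
    obtain ⟨b, hb⟩ := h3
    exact Units.ext ((map_eq_one_iff _ (ψ i b).injective).1 hb)
  · have h1 := conj_of_act S (i := i) (S.d j (ω j)) (a := (ω i ^ twc q i j)⁻¹) ((N i).act (N j) (ω j) _ (by
      intro s hs
      rw [Units.val_inv_eq_inv_val, map_inv₀, Units.val_zpow_eq_zpow_val, map_zpow₀, v i s hs,
        List.map_congr_left fun b hb => by rw [v j b hb, tw_cart]]
      fin_cases i <;> fin_cases j <;> simp [Nodes.RGDTwE6.J] at hs <;> rcases hs with rfl | rfl <;>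
        simp [Nodes.RGDTwE6.J, twc, hz1, hz2, _root_.zpow_neg, mul_comm]))
    rwa [inv_inv, map_zpow, map_zpow] at h1

/-- **the datum of a cover of `²E₆(q)`** -/
theorem Tw.exists_tor' {K : Fam} {Y : Type} [Group Y] [Finite Y] [Fintype F] (c : Cov K Y) (hq : IsPrimePow q)
    (hF : Fintype.card F = q ^ 2) (e : Y ⧸ Subgroup.center Y ≃* twistedE6 F q) (hφ : ∀ x, φ x = x ^ q)
    (hqq : ∀ t : F, (t ^ q) ^ q = t) (p : ℕ) [CharP F p] (hp2 : p ≠ 2) [Finite CoxeterMatrix.F₄.Group] :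
    letI := k4Field φ
    ∃ (Φ : ∀ i, SpecialLinearGroup (Fin 2) (k4 φ i) →* Y) (ω : ∀ i, (k4 φ i)ˣ)
      (S : InS p CoxeterMatrix.F₄.toCoxeterSystem isCartan ((Nodes.RGDTwE6.T F q).comap (prj e))
        (fun z => lft p (prj e) (Nodes.RGDTwE6.X φ q z)) Φ),
      (∀ i, prj e (Φ i ww) = Nodes.RGDTwE6.nn hφ i) ∧
      (∀ i c, c ∈ Subgroup.zpowers (ω i)) ∧ Tor S.inp.rgd (twc q) (fun i => Φ i (dd (ω i))) ∧
      ∀ i, orderOf (Φ i (dd (ω i))) = ![q - 1, q - 1, q ^ 2 - 1, q ^ 2 - 1] i := by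
  let _ := k4Field φ
  have hpp : p.Prime := CharP.char_is_prime F p
  have h2 : (2 : F) ≠ 0 := fun h =>
    hp2 ((Nat.prime_dvd_prime_iff_eq hpp Nat.prime_two).1 ((CharP.cast_eq_zero_iff F p 2).1 (by exact_mod_cast h)))
  obtain ⟨Φ', ω, S, h0, h1, h3, h4, h5⟩ := Tw.nodes hq hF hφ hqq p h2
  obtain ⟨E, h6⟩ := tw_ce c hq hF e p
  obtain ⟨Φ, S', h7, -, C⟩ := tor_lift S hpp hp2 E (perfect c) h6 h1 h5 (fun i => by
    fin_cases i
    exacts [⟨1, rfl⟩, ⟨0, rfl⟩, ⟨3, rfl⟩, ⟨2, rfl⟩]) h4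
  refine ⟨Φ, ω, S', fun i => (h7 i _).trans (h0 i), h1, C, fun i => ?_⟩
  rw [← h3]
  exact orderOf_injective ((Φ i).comp dd) ((injective_iff_map_eq_one _).2 fun a ha =>
    h4 i a (by rw [← h7]; exact (congrArg (prj e) ha).trans (map_one _))) (ω i)

theorem Tw.exists_tor {K : Fam} {Y : Type} [Group Y] [Finite Y] [Fintype F] (c : Cov K Y) (hq : IsPrimePow q)
    (hF : Fintype.card F = q ^ 2) (e : Y ⧸ Subgroup.center Y ≃* twistedE6 F q) (hφ : ∀ x, φ x = x ^ q)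
    (hqq : ∀ t : F, (t ^ q) ^ q = t) (p : ℕ) [CharP F p] (hp2 : p ≠ 2) [Finite CoxeterMatrix.F₄.Group] :
    letI := k4Field φ
    ∃ (Φ : ∀ i, SpecialLinearGroup (Fin 2) (k4 φ i) →* Y) (ω : ∀ i, (k4 φ i)ˣ)
      (S : InS p CoxeterMatrix.F₄.toCoxeterSystem isCartan ((Nodes.RGDTwE6.T F q).comap (prj e))
        (fun z => lft p (prj e) (Nodes.RGDTwE6.X φ q z)) Φ),
      (∀ i c, c ∈ Subgroup.zpowers (ω i)) ∧ Tor S.inp.rgd (twc q) (fun i => Φ i (dd (ω i))) ∧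
      ∀ i, orderOf (Φ i (dd (ω i))) = ![q - 1, q - 1, q ^ 2 - 1, q ^ 2 - 1] i := by
  obtain ⟨Φ, ω, S, -, h⟩ := Tw.exists_tor' c hq hF e hφ hqq p hp2
  exact ⟨Φ, ω, S, h⟩

/-- **`²E₆(q)`, `q` odd** -/
theorem boxTw (hM : AH.Main) : RowA TwE6O := by
  intro G _ _ c
  obtain ⟨F, _, _, q, hF, hq, hc, ⟨e⟩⟩ := c.fam
  obtain ⟨p, _, hp, hp2, -⟩ := exists_char F hF
  obtain ⟨φ, hφ, hqq⟩ := exists_frob hq hc
  have hW : Finite CoxeterMatrix.F₄.Group :=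
    Nodes.RGDFold.finite_W (hp := Nodes.RGDTwE6.hp) CoxeterMatrix.F₄.toCoxeterSystem isCartan foldData
  let _ := k4Field φ
  obtain ⟨Φ, ω, S, -, C, ho⟩ := Tw.exists_tor c hq hc e hφ hqq p hp2
  have h1 : 1 ≤ q := hq.one_lt.le
  have h2 : ((q ^ 2 - 1 : ℕ) : ℤ) = (q + 1) * (q - 1) := by
    rw [Nat.cast_sub (Nat.one_le_pow _ _ h1)]
    push_cast
    ring
  refine Tw.qa hM hp hp2 S.inp.top C ?_ ?_ ((congrArg Nat.cast (ho 2)).trans h2) ?_
  · rw [hc] at hF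
    exact (Nat.odd_pow_iff two_ne_zero).1 hF
  · rw [← orderOf_dvd_iff_zpow_eq_one, ho 1]
    exact dvd_of_eq (Nat.cast_pred h1)
  · rw [← orderOf_dvd_iff_zpow_eq_one, ho 3]
    exact dvd_of_eq h2

end inst

end Cfsg.Agent.ODD.Pos
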