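import Cfsg.Agent.ODD.Pos.Gen
import Cfsg.Agent.ODD.Cov.E6

/-!
# ODD, box POS: `E₆(q)`, `q` odd, and its covers (helper60)

* `E6.cls`: up to conjugacy a character of `T` with a stabiliser of odd index is trivial on `g i`, `i ≠ 0`;
* `E6.qa`: `QA` for a root group datum of type `E₆` with `Tor R (-A6) g`;
* `E6.exists_tor`: the datum of a cover of `E₆(q)`; `boxE6`.
-/

set_option autoImplicit false
set_option linter.unusedSectionVars false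

open Cfsg

namespace Cfsg.Agent.ODD.Pos

open CoxeterSystem Cfsg.Agent.ChevalleyStructure.CoxeterGeom Cfsg.Agent.Tits.Roots Cfsg.Agent.Tits.Core
  Cfsg.Agent.Nodes.Reps Cfsg.Agent.Nodes.BNOf Cfsg.Agent.Nodes.Bruhat Cfsg.Agent.Nodes.LeviDec
  Cfsg.Agent.Nodes.StabComb Cfsg.Agent.H684.OQ Cfsg.Agent.H381.OQ Cfsg.Agent.ODD.PS Cfsg.Agent.ODD.Red

section gen

variable {I W Y : Type} [Fintype I] [DecidableEq I] [Group W] [Finite W] [Group Y] [Finite Y]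
  {M : CoxeterMatrix I} {cs : CoxeterSystem M W} {A : I → I → ℤ} {h : IsCartan M A} {p : ℕ} {T : Subgroup Y}
  {n : I → Y} {X : (I → ℤ) → Subgroup Y} {R : RGD cs h p T n X}

theorem scw_mem {c : I → I → ℤ} {L : List (I → ℤ)} (hL : ∀ v ∈ L, ∀ i, sc c i v ∈ L) {v : I → ℤ} (hv : v ∈ L)
    (ω : List I) : scw c ω v ∈ L := by
  induction ω with
  | nil => exact hv
  | cons i ω ih => exact hL _ ih i

theorem root_mem {L : List (I → ℤ)} (hL : ∀ v ∈ L, ∀ i, sc (-A) i v ∈ L) (h0 : ∀ i, sr i ∈ L) {x : I → ℤ}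
    (hx : IsRoot cs h x) : x ∈ L := by
  obtain ⟨w, i, rfl⟩ := hx
  obtain ⟨ω, rfl⟩ := cs.wordProd_surjective w
  show rep cs h _ _ ∈ L
  rw [rep_word]
  exact scw_mem hL (h0 i) ω

/-- the exponents on which `mu` is trivial -/
def Tor.ker {c : I → I → ℤ} {g : I → Y} (C : Tor R c g) (mu : ↥T →* ℂˣ) : AddSubgroup (I → ℤ) where
  carrier := {y | C.vl mu y = 1}
  zero_mem' := C.vl_zero mu
  add_mem' {a b} ha hb := by
    show _ = _
    rw [C.vl_add, ha, hb, one_mul]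
  neg_mem' {a} ha := by
    show _ = _
    rw [← neg_one_smul ℤ a, C.vl_smul, ha, one_zpow]

theorem Tor.sub_mem_ker {c : I → I → ℤ} {g : I → Y} (C : Tor R c g) {mu : ↥T →* ℂˣ} {ω : List I}
    (hw : cs.wordProd ω ∈ Wst R mu) (y : I → ℤ) : scw c ω y - y ∈ C.ker mu := by
  have h1 := C.vl_add mu (scw c ω y - y) y
  rw [sub_add_cancel, C.vl_word hw] at h1
  exact right_eq_mul.1 h1

theorem Tor.sr_mem_ker {c : I → I → ℤ} {g : I → Y} (C : Tor R c g) {mu : ↥T →* ℂˣ} {i : I} :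
    sr i ∈ C.ker mu ↔ mu ⟨g i, C.mem i⟩ = 1 := by
  rw [← C.vl_sr]
  rfl

/-- the value of a character which is trivial on all generators but one -/
theorem Tor.vl_one {c : I → I → ℤ} {g : I → Y} (C : Tor R c g) {mu : ↥T →* ℂˣ} {i : I}
    (h1 : ∀ j, j ≠ i → mu ⟨g j, C.mem j⟩ = 1) (y : I → ℤ) : C.vl mu y = mu ⟨g i, C.mem i⟩ ^ y i := by
  rw [C.vl_prod, Finset.prod_eq_single i]
  · intro j _ hj
    rw [h1 j hj, one_zpow]
  · intro hi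
    exact absurd (Finset.mem_univ i) hi

theorem Tor.vl_cw {c : I → I → ℤ} {g : I → Y} (C : Tor R c g) {mu nu : ↥T →* ℂˣ} (h1 : Cw R mu nu) :
    ∃ ω, ∀ y, C.vl nu y = C.vl mu (scw c ω y) := by
  obtain ⟨w, k, hk, h1⟩ := h1
  obtain ⟨ω, hω⟩ := cs.wordProd_surjective w⁻¹
  rw [← inv_inv w, ← hω] at hk
  exact ⟨ω, fun y => by rw [← C.vl_rp mu hk, (cjl_eq_iff R hk).2 h1]⟩

/-- commuting involutions, given by words -/
theorem exists_words {lam : ↥T →* ℂˣ} (hl : Odd (Wst R lam).index) {L : List (List I)}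
    (h2 : ∀ a ∈ L, ∀ j, scw (-A) (a ++ a) (sr j) = sr j)
    (hc : ∀ a ∈ L, ∀ b ∈ L, ∀ j, scw (-A) (a ++ b) (sr j) = scw (-A) (b ++ a) (sr j)) :
    ∃ mu, Cw R lam mu ∧ ∀ a ∈ L, cs.wordProd a ∈ Wst R mu := by
  obtain ⟨w, k, hk, h1⟩ := exists_conj R hl (S := {w | ∃ a ∈ L, w = cs.wordProd a}) (by
    rintro _ ⟨a, ha, rfl⟩
    rw [← wordProd_append, word_eq cs h (ω' := []) (h2 a ha), wordProd_nil]) (by
    rintro _ ⟨a, ha, rfl⟩ _ ⟨b, hb, rfl⟩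
    rw [← wordProd_append, word_eq cs h (hc a ha b hb), wordProd_append])
  exact ⟨_, cw_cjl R lam hk, fun a ha => h1 _ ⟨a, ha, rfl⟩⟩

theorem Tor.Rg_eq_top {c : I → I → ℤ} {g : I → Y} (C : Tor R c g) {mu : ↥T →* ℂˣ}
    (h1 : ∀ i, mu ⟨g i, C.mem i⟩ = 1) (w : W) : w ∈ Rg R mu := by
  induction w using cs.simple_induction_right with
  | one => exact one_mem _
  | mul_simple_right w i ih => exact mul_mem ih (C.simple_mem_Rg (h1 i))

end gen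

namespace E6

/-- the Cartan matrix -/
def A6 : Fin 6 → Fin 6 → ℤ :=
  ![![2, 0, -1, 0, 0, 0], ![0, 2, 0, -1, 0, 0], ![-1, 0, 2, -1, 0, 0], ![0, -1, -1, 2, -1, 0], ![0, 0, 0, -1, 2, -1],
    ![0, 0, 0, 0, -1, 2]]

/-- three times the first fundamental weight -/
def y6 : Fin 6 → ℤ := ![4, 3, 5, 6, 4, 2]

/-- its orbit -/
def L27 : List (Fin 6 → ℤ) :=
  [![4, 3, 5, 6, 4, 2], ![1, 3, 5, 6, 4, 2], ![1, 3, 2, 6, 4, 2], ![1, 3, 2, 3, 4, 2], ![1, 0, 2, 3, 4, 2], ![1,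
   3, 2, 3, 1, 2], ![1, 0, 2, 3, 1, 2], ![1, 3, 2, 3, 1, -1], ![1, 0, 2, 0, 1, 2], ![1, 0, 2, 3, 1, -1], ![1, 0,
   -1, 0, 1, 2], ![1, 0, 2, 0, 1, -1], ![-2, 0, -1, 0, 1, 2], ![1, 0, -1, 0, 1, -1], ![1, 0, 2, 0, -2, -1],
   ![-2, 0, -1, 0, 1, -1], ![1, 0, -1, 0, -2, -1], ![-2, 0, -1, 0, -2, -1], ![1, 0, -1, -3, -2, -1], ![-2, 0,
   -1, -3, -2, -1], ![1, -3, -1, -3, -2, -1], ![-2, -3, -1, -3, -2, -1], ![-2, 0, -4, -3, -2, -1], ![-2, -3, -4,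
   -3, -2, -1], ![-2, -3, -4, -6, -2, -1], ![-2, -3, -4, -6, -5, -1], ![-2, -3, -4, -6, -5, -4]]

/-- the roots -/
def L72 : List (Fin 6 → ℤ) :=
  [![1, 0, 0, 0, 0, 0], ![0, 1, 0, 0, 0, 0], ![0, 0, 1, 0, 0, 0], ![0, 0, 0, 1, 0, 0], ![0, 0, 0, 0, 1, 0], ![0,
   0, 0, 0, 0, 1], ![-1, 0, 0, 0, 0, 0], ![1, 0, 1, 0, 0, 0], ![0, -1, 0, 0, 0, 0], ![0, 1, 0, 1, 0, 0], ![0, 0,
   -1, 0, 0, 0], ![0, 0, 1, 1, 0, 0], ![0, 0, 0, -1, 0, 0], ![0, 0, 0, 1, 1, 0], ![0, 0, 0, 0, -1, 0], ![0, 0,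
   0, 0, 1, 1], ![0, 0, 0, 0, 0, -1], ![-1, 0, -1, 0, 0, 0], ![1, 0, 1, 1, 0, 0], ![0, -1, 0, -1, 0, 0], ![0, 1,
   1, 1, 0, 0], ![0, 1, 0, 1, 1, 0], ![0, 0, -1, -1, 0, 0], ![0, 0, 1, 1, 1, 0], ![0, 0, 0, -1, -1, 0], ![0, 0,
   0, 1, 1, 1], ![0, 0, 0, 0, -1, -1], ![-1, 0, -1, -1, 0, 0], ![1, 1, 1, 1, 0, 0], ![1, 0, 1, 1, 1, 0], ![0,
   -1, -1, -1, 0, 0], ![0, -1, 0, -1, -1, 0], ![0, 1, 1, 1, 1, 0], ![0, 1, 0, 1, 1, 1], ![0, 0, -1, -1, -1, 0],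
   ![0, 0, 1, 1, 1, 1], ![0, 0, 0, -1, -1, -1], ![-1, -1, -1, -1, 0, 0], ![-1, 0, -1, -1, -1, 0], ![1, 1, 1, 1,
   1, 0], ![1, 0, 1, 1, 1, 1], ![0, -1, -1, -1, -1, 0], ![0, -1, 0, -1, -1, -1], ![0, 1, 1, 2, 1, 0], ![0, 1, 1,
   1, 1, 1], ![0, 0, -1, -1, -1, -1], ![-1, -1, -1, -1, -1, 0], ![-1, 0, -1, -1, -1, -1], ![1, 1, 1, 2, 1, 0],
   ![1, 1, 1, 1, 1, 1], ![0, -1, -1, -2, -1, 0], ![0, -1, -1, -1, -1, -1], ![0, 1, 1, 2, 1, 1], ![-1, -1, -1,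
   -2, -1, 0], ![-1, -1, -1, -1, -1, -1], ![1, 1, 2, 2, 1, 0], ![1, 1, 1, 2, 1, 1], ![0, -1, -1, -2, -1, -1],
   ![0, 1, 1, 2, 2, 1], ![-1, -1, -2, -2, -1, 0], ![-1, -1, -1, -2, -1, -1], ![1, 1, 2, 2, 1, 1], ![1, 1, 1, 2,
   2, 1], ![0, -1, -1, -2, -2, -1], ![-1, -1, -2, -2, -1, -1], ![-1, -1, -1, -2, -2, -1], ![1, 1, 2, 2, 2, 1],
   ![-1, -1, -2, -2, -2, -1], ![1, 1, 2, 3, 2, 1], ![-1, -1, -2, -3, -2, -1], ![1, 2, 2, 3, 2, 1], ![-1, -2, -2,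
   -3, -2, -1]]

theorem L27_cl : ∀ v ∈ L27, ∀ i, sc (-A6) i v ∈ L27 := by decide +kernel

theorem L72_cl : ∀ v ∈ L72, ∀ i, sc (-A6) i v ∈ L72 := by decide +kernel

theorem L27_val : ∀ v ∈ L27, v 0 = 1 ∨ v 0 = 2 * 2 ∨ v 0 = 2 * -1 := by decide +kernel

theorem L27_ne : ∀ v ∈ L27, v = y6 ∨ ∃ j, j ≠ 0 ∧ (pairing A6 j v = 3 ∨ pairing A6 j v = -3) := by decide +kernel

theorem L72_anti : ∀ x ∈ L72, 0 < x 0 → (∀ j, j ≠ 0 → pairing A6 j x ≤ 0) → x = sr 0 := by decide +kernel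

variable {W Y : Type} [Group W] [Finite W] [Group Y] [Finite Y]
  {M : CoxeterMatrix (Fin 6)} {cs : CoxeterSystem M W} {h : IsCartan M A6} {p : ℕ} {T : Subgroup Y}
  {n : Fin 6 → Y} {X : (Fin 6 → ℤ) → Subgroup Y} {R : RGD cs h p T n X} {g : Fin 6 → Y}

theorem coord (w : W) (j : Fin 6) : 3 * rep cs h w (sr j) 0 = pairing A6 j (rep cs h w⁻¹ y6) := by
  induction w using cs.simple_induction_right generalizing j with
  | one =>
    rw [inv_one, map_one, Module.End.one_apply, Module.End.one_apply]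
    revert j
    decide +kernel
  | mul_simple_right w i ih =>
    have h1 : A6 i j = A6 j i := by
      revert i j
      decide +kernel
    rw [mul_inv_rev, inv_simple, rep_mul_apply, rep_mul_apply, rep_simple_eq, rep_simple_eq, map_sub, map_zsmul,
      pairing_sr, sub_eq_add_neg (rep cs h w⁻¹ y6), ← neg_smul, pairing_add, pairing_smul, pairing_sr, ← ih, ← ih, h1]
    simp only [Pi.sub_apply, Pi.smul_apply, smul_eq_mul]
    ring

/-- **the characters with a stabiliser of odd index** -/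
theorem cls0 (C : Tor R (-A6) g) {lam : ↥T →* ℂˣ} (hl : Odd (Wst R lam).index) :
    ∃ mu, Cw R lam mu ∧ ∀ i, i ≠ 0 → mu ⟨g i, C.mem i⟩ = 1 := by
  obtain ⟨mu, h1, h2⟩ := exists_words hl (L := [[1, 2], [3, 1, 2, 3], [4, 3, 1, 2, 3, 4], [5, 4, 3, 1, 2, 3, 4, 5]])
    (by decide +kernel) (by decide +kernel)
  have a1 := C.sub_mem_ker (h2 [1, 2] (by simp)) (sr 0)
  have a2 := C.sub_mem_ker (h2 [3, 1, 2, 3] (by simp)) (sr 0)
  have a3 := C.sub_mem_ker (h2 [4, 3, 1, 2, 3, 4] (by simp)) (sr 0)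
  have a4 := C.sub_mem_ker (h2 [5, 4, 3, 1, 2, 3, 4, 5] (by simp)) (sr 0)
  have a5 := C.sub_mem_ker (h2 [1, 2] (by simp)) (sr 3)
  refine ⟨mu, h1, fun i hi => C.sr_mem_ker.1 ?_⟩
  fin_cases i
  · exact absurd rfl hi
  · convert sub_mem a5 a1 using 1
    decide +kernel
  · convert a1 using 1
    decide +kernel
  · convert sub_mem a2 a1 using 1
    decide +kernel
  · convert sub_mem a3 a2 using 1
    decide +kernel
  · convert sub_mem a4 a3 using 1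
    decide +kernel

theorem wst_le (C : Tor R (-A6) g) {mu : ↥T →* ℂˣ} (h1 : ∀ i, i ≠ 0 → mu ⟨g i, C.mem i⟩ = 1) :
    Wst R mu ≤ Rg R mu := by
  intro w hw
  by_cases h0 : mu ⟨g 0, C.mem 0⟩ = 1
  · exact C.Rg_eq_top (fun i => if hi : i = 0 then hi ▸ h0 else h1 i hi) w
  obtain ⟨ω, rfl⟩ := cs.wordProd_surjective w
  have h2 : rep cs h (cs.wordProd ω)⁻¹ y6 ∈ L27 := by
    rw [← wordProd_reverse, rep_word]
    exact scw_mem L27_cl (by decide +kernel) _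
  rcases L27_ne _ h2 with h3 | ⟨j, hj, h3⟩
  · have h4 := mem_WJ_of_rep (cs := cs) (h := h) (r := y6) (by unfold Dom; decide +kernel) h3
    refine inv_mem_iff.1 (C.WJ_le_Rg (fun i hi => h1 i ?_) h4)
    rintro rfl
    exact absurd (mem_orth.1 hi) (by decide +kernel)
  · exfalso
    have h4 := C.vl_word hw (sr j)
    rw [C.vl_one h1, C.vl_one h1, ← rep_word cs h, sr_ne hj.symm, zpow_zero] at h4
    rw [← coord] at h3
    rcases h3 with h3 | h3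
    · rw [show rep cs h (cs.wordProd ω) (sr j) 0 = 1 by omega, zpow_one] at h4
      exact h0 h4
    · rw [show rep cs h (cs.wordProd ω) (sr j) 0 = -1 by omega, zpow_neg_one, inv_eq_one] at h4
      exact h0 h4

theorem cls (C : Tor R (-A6) g) {mu : ↥T →* ℂˣ} (h1 : ∀ i, i ≠ 0 → mu ⟨g i, C.mem i⟩ = 1) :
    Cls C y6 mu (mu ⟨g 0, C.mem 0⟩) where
  le := wst_le C h1
  val i := by
    by_cases hi : i = 0
    · subst hi
      exact Subgroup.mem_zpowers _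
    · rw [h1 i hi]
      exact one_mem _
  att := ⟨_, cw_cjl R mu (rp_simple cs R.nsys 0), by
    rw [C.vl_cjl, C.vl_one h1, show sc (-A6) 0 y6 0 = 1 by decide +kernel, zpow_one]⟩
  all nu hn := by
    obtain ⟨ω, h2⟩ := C.vl_cw hn
    rw [h2, C.vl_one h1]
    rcases L27_val _ (scw_mem L27_cl (v := y6) (by decide +kernel) ω) with h3 | h3 | h3
    · exact Or.inl (by rw [h3, zpow_one])
    · exact Or.inr ⟨_, by rw [h3]⟩
    · exact Or.inr ⟨_, by rw [h3]⟩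

/-- **type `E₆`** -/
theorem qa (hM : AH.Main) (hp : p.Prime) (hp2 : p ≠ 2) (hG : GG cs h T X = ⊤) (C : Tor R (-A6) g) : QA Y := by
  refine qa_of hM hp hp2 hG C (J := {i | i ≠ 0}) (y0 := y6) (fun j hj => ?_) (fun x hx h1 => ⟨[], 0, ?_, fun r hr => ?_⟩)
    fun lam hl => ?_
  · have h1 : ∀ j, j ≠ 0 → pairing (-A6) j y6 = 0 := by decide +kernel
    rw [h1 j hj, zpow_zero]
  · obtain ⟨h2, -, k, hk, h3⟩ := hx
    rw [show k = 0 from not_not.1 hk] at h3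
    exact L72_anti x (root_mem L72_cl (by decide +kernel) h2) h3 h1
  · rw [show pairing (-A6) 0 (scw (-A6) [] y6) = -3 by decide +kernel]
    exact C.zpow_ne hp hp2 0 (hr.mul (by decide))
  · obtain ⟨mu, h1, h2⟩ := cls0 C hl
    exact ⟨mu, _, h1, cls C h2⟩

end E6

/-! ### the covers -/

section inst

open Matrix Cfsg.Lie Cfsg.Agent.ODD.Cv Cfsg.Agent.ODD.PX Cfsg.Agent.H310.OQ Cfsg.Agent.Nodes.RGDLift
  Cfsg.Agent.Nodes.RGDLib Cfsg.Agent.ChevalleyStructure Cfsg.Agent.ChevalleyStructure.CoxeterGeomTypes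
  Cfsg.Agent.ChevalleyStructure.RootVec Cfsg.Agent.Nodes.RGDChev

theorem E6.cartan_eq : cartanOf chevE6 6 = E6.A6 := by decide +kernel

theorem E6.phi_inj {F : Type} [Field F] {i : Fin 6} {a : Fˣ} (ha : phi hp6 F i (dd a) = 1) : a = 1 := by
  obtain ⟨j, hj⟩ : ∃ j, cartanOf chevE6 6 i j = -1 := by
    clear ha
    revert i
    decide +kernel
  have h4 := phi_act hp6 F j i a 1
  rw [ha, one_mul, inv_one, mul_one, mul_one, hj] at h4
  have h5 : phi hp6 F j (uu ((a ^ (-1 : ℤ) : Fˣ) + -1)) = 1 := by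
    rw [← uu_mul, map_mul, ← h4, ← map_mul, uu_mul, add_neg_cancel, uu_zero, map_one]
  have h6 := (Elts.xG_eq_one_iff hp6.inList (NPerm.simple_lt hp6.inList (lt_rank hp6 j)) _).1
    ((phi_uu hp6 F j _).symm.trans (congrArg Subtype.val h5))
  rwa [add_neg_eq_zero, Units.val_eq_one, _root_.zpow_neg_one, inv_eq_one] at h6

/-- **the datum of a cover of `E₆(q)`** -/
theorem E6.exists_tor {K : Fam} {G : Type} [Group G] [Finite G] (c : Cov K G) {F : Type} [Field F] [Fintype F]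
    (e : G ⧸ Subgroup.center G ≃* chevE6.group F) {p : ℕ} [CharP F p] (hp2 : p ≠ 2)
    {W : Type} [Group W] [Finite W] (cs : CoxeterSystem CoxeterMatrix.E₆ W) {γ : Fˣ}
    (hγ : ∀ a, a ∈ Subgroup.zpowers γ) :
    ∃ (Φ : Fin 6 → SpecialLinearGroup (Fin 2) F →* G) (S : InS p cs hp6.isCartan
      (((chevE6.diagonalSubgroup F).subgroupOf (chevE6.group F)).comap (prj e))
      (fun x => lft p (prj e) ((XV chevE6 6 F x).subgroupOf (chevE6.group F))) (k := fun _ => F) Φ),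
      (∀ i g, prj e (Φ i g) = phi hp6 F i g) ∧ (∀ i g, phi hp6 F i g = 1 → Φ i g = 1) ∧
        Tor S.inp.rgd (-E6.A6) fun i => Φ i (dd γ) := by
  obtain ⟨Φ, S, h1, h2, h3⟩ := e6_lift c e p hp2 cs
  refine ⟨Φ, S, h1, h2, tor_of_inS S (ω := fun _ => γ) (fun _ => hγ) (fun i j => ?_) (by decide +kernel)
    fun i a ha => E6.phi_inj (i := i) (by rw [← h1, ha, map_one])⟩
  rw [h3, E6.cartan_eq]
  congr 2
  revert i j
  decide +kernel

/-- **`E₆(q)`, `q` odd** -/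
theorem boxE6 (hM : AH.Main) : RowA (ChevO chevE6) := by
  intro G _ _ c
  obtain ⟨F, _, _, hF, ⟨e⟩⟩ := c.fam
  obtain ⟨p, _, hp, hp2, -⟩ := exists_char F hF
  have hW : Finite CoxeterMatrix.E₆.Group := finite_W hp6 CoxeterMatrix.E₆.toCoxeterSystem
  obtain ⟨γ, hγ⟩ := IsCyclic.exists_generator (α := Fˣ)
  obtain ⟨Φ, S, -, -, C⟩ := E6.exists_tor c e hp2 CoxeterMatrix.E₆.toCoxeterSystem hγ
  have key : ∀ {A : Fin 6 → Fin 6 → ℤ} (_ : A = E6.A6) {h : IsCartan CoxeterMatrix.E₆ A} {T : Subgroup G}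
      {n g : Fin 6 → G} {X : (Fin 6 → ℤ) → Subgroup G} {R : RGD CoxeterMatrix.E₆.toCoxeterSystem h p T n X},
      GG CoxeterMatrix.E₆.toCoxeterSystem h T X = ⊤ → Tor R (-E6.A6) g → QA G := by
    rintro _ rfl h T n g X R hG C
    exact E6.qa hM hp hp2 hG C
  exact key E6.cartan_eq S.inp.top C

end inst

end Cfsg.Agent.ODD.Pos
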