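import Cfsg.Agent.ODD.Pos.Tor
import Cfsg.Agent.ODD.Cov.Lift

/-!
# ODD, box POS: the generic criterion (helper60)

* `Cw R lam mu`: `mu` is a conjugate of `lam` under the Weyl group;
* `Cls C y0 mu x`: the shape of a character of `T` whose stabiliser has odd index;
* `qa_of`: `QA` from the classification of these characters;
* `tree`: coset representatives for `Rg R mu`;
* `tor_of_inS`, `tor_lift`: `Tor` for data with nodes of type `SL₂` and for their covers.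
-/

set_option autoImplicit false
set_option linter.unusedSectionVars false

open Cfsg

namespace Cfsg.Agent.ODD.Pos

open CoxeterSystem Cfsg.Agent.ChevalleyStructure.CoxeterGeom Cfsg.Agent.Tits.Roots Cfsg.Agent.Tits.Core
  Cfsg.Agent.Nodes.Reps Cfsg.Agent.Nodes.BNOf Cfsg.Agent.Nodes.Bruhat Cfsg.Agent.Nodes.LeviDec
  Cfsg.Agent.Nodes.StabComb Cfsg.Agent.H684.OQ Cfsg.Agent.H381.OQ Cfsg.Agent.ODD.PS Cfsg.Agent.ODD.Red

variable {I W Y : Type} [Fintype I] [DecidableEq I] [Group W] [Finite W] [Group Y] [Finite Y]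
  {M : CoxeterMatrix I} {cs : CoxeterSystem M W} {A : I → I → ℤ} {h : IsCartan M A} {p : ℕ} {T : Subgroup Y}
  {n : I → Y} {X : (I → ℤ) → Subgroup Y}

section main

variable (R : RGD cs h p T n X)

/-- `mu` is a conjugate of `lam` -/
def Cw (lam mu : ↥T →* ℂˣ) : Prop := ∃ w k, Rp cs R.nsys w k ∧ Cj T mu lam k

theorem cw_cjl (lam : ↥T →* ℂˣ) {w : W} {k : Y} (hk : Rp cs R.nsys w k) : Cw R lam (cjl hk.mem_normalizer lam) :=
  ⟨w, k, hk, (cjl_eq_iff R hk).1 rfl⟩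

theorem cw_refl (lam : ↥T →* ℂˣ) : Cw R lam lam := ⟨1, 1, rp_one, fun t ht ht' => by congr 2; group⟩

variable {R}

theorem Cw.trans {lam mu nu : ↥T →* ℂˣ} (h1 : Cw R lam mu) (h2 : Cw R mu nu) : Cw R lam nu := by
  obtain ⟨w, k, hk, h1⟩ := h1
  obtain ⟨v, l, hl, h2⟩ := h2
  refine ⟨v * w, l * k, hl.mul hk, fun t ht ht' => ?_⟩
  rw [h2 t ht (conj_T' R hl ht), h1 _ _ (conj_T' R hk (conj_T' R hl ht))]
  congr 2
  group

theorem Cw.mB_eq (hG : GG cs h T X = ⊤) {lam mu : ↥T →* ℂˣ} (h1 : Cw R lam mu) {θ : Y → ℂ}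
    (hθ : IsIrrCharacter Y θ) : mB R mu θ = mB R lam θ := by
  obtain ⟨w, k, hk, h1⟩ := h1
  exact mB_congr R hG (Characters.Core.isIrr_isClassFunction hθ) (mem_NN.2 ⟨w, hk⟩) h1

theorem cjl_mul {v w : W} {k l : Y} (hk : Rp cs R.nsys w k) (hl : Rp cs R.nsys v l) (mu : ↥T →* ℂˣ) :
    cjl (hl.mul hk).mem_normalizer mu = cjl hl.mem_normalizer (cjl hk.mem_normalizer mu) := by
  ext t
  rw [cjl_apply _ _ t.2 (conj_T' R (hl.mul hk) t.2), cjl_apply _ _ t.2 (conj_T' R hl t.2),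
    cjl_apply _ _ _ (conj_T' R hk (conj_T' R hl t.2))]
  congr 3
  group

theorem cjl_congr (hc : ∀ a ∈ T, ∀ b ∈ T, a * b = b * a) {w : W} {k l : Y} (hk : Rp cs R.nsys w k)
    (hl : Rp cs R.nsys w l) (mu : ↥T →* ℂˣ) : cjl hk.mem_normalizer mu = cjl hl.mem_normalizer mu := by
  ext t
  rw [cjl_apply _ _ t.2 (conj_T' R hk t.2), cjl_apply _ _ t.2 (conj_T' R hl t.2)]
  congr 3
  have h2 := hc _ (hk.unique hl) _ (conj_T' R hk t.2)
  calc k⁻¹ * t * k = (k⁻¹ * l)⁻¹ * ((k⁻¹ * l) * (k⁻¹ * t * k)) := by group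
    _ = l⁻¹ * t * l := by rw [h2]; group

/-- induction over the conjugates -/
theorem Cw.ind (hc : ∀ a ∈ T, ∀ b ∈ T, a * b = b * a) {P : (↥T →* ℂˣ) → Prop} {mu : ↥T →* ℂˣ} (h0 : P mu)
    (h1 : ∀ nu i, P nu → P (cjl (rp_simple cs R.nsys i).mem_normalizer nu)) {nu : ↥T →* ℂˣ} (hn : Cw R mu nu) :
    P nu := by
  obtain ⟨w, k, hk, h2⟩ := hn
  rw [← (cjl_eq_iff R hk).2 h2]
  clear h2
  induction w using cs.simple_induction_left generalizing k with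
  | one =>
    rw [cjl_congr (R := R) hc hk rp_one]
    convert h0
    ext t
    simp [cjl]
  | mul_simple_left w i ih =>
    obtain ⟨l, hl⟩ := exists_rp cs R.nsys w
    rw [cjl_congr (R := R) hc hk ((rp_simple cs R.nsys i).mul hl), cjl_mul (R := R) hl (rp_simple cs R.nsys i)]
    exact h1 _ i (ih l hl)

/-- the value at `k⁻¹ * el y * k` -/
theorem Tor.vl_rp {c : I → I → ℤ} {g : I → Y} (C : Tor R c g) (mu : ↥T →* ℂˣ) {ω : List I} {k : Y}
    (hk : Rp cs R.nsys (cs.wordProd ω)⁻¹ k) (y : I → ℤ) : C.vl (cjl hk.mem_normalizer mu) y = C.vl mu (scw c ω y) := by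
  rw [cjl_congr (R := R) C.comm hk (rp_word R ω).inv]
  exact C.vl_eq mu _ (by rw [inv_inv, C.conj_word])

/-- **coset representatives** -/
theorem tree {c : I → I → ℤ} {g : I → Y} (C : Tor R c g) {mu : ↥T →* ℂˣ} {U : Set (List I)} (h0 : [] ∈ U)
    (hU : ∀ ω ∈ U, ∀ i, C.vl mu (scw c ω (sr i)) = 1 ∨ ω ++ [i] ∈ U ∨ ∃ ω' ∈ U, ω = ω' ++ [i]) (w : W) :
    ∃ ω ∈ U, cs.wordProd ω * w ∈ Rg R mu := by
  induction w using cs.simple_induction_left with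
  | one => exact ⟨[], h0, by rw [wordProd_nil, one_mul]; exact one_mem _⟩
  | mul_simple_left w i ih =>
    obtain ⟨ω, hω, h1⟩ := ih
    rcases hU ω hω i with h2 | h2 | ⟨ω', h2, rfl⟩
    · have h3 := mem_Rg R (rp_word R ω).inv (C.zet_ne (i := i) (mu := cjl (rp_word R ω).inv.mem_normalizer mu) (by
        rw [← C.vl_sr, C.vl_rp mu (rp_word R ω).inv, h2]))
      refine ⟨ω, hω, ?_⟩
      have h4 := mul_mem h3 h1
      rwa [inv_inv, mul_assoc, inv_mul_cancel_left, mul_assoc] at h4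
    · refine ⟨_, h2, ?_⟩
      rwa [wordProd_append, wordProd_singleton, mul_assoc, simple_mul_simple_cancel_left]
    · refine ⟨_, h2, ?_⟩
      rwa [wordProd_append, wordProd_singleton, mul_assoc] at h1

/-- the shape of a character with a stabiliser of odd index -/
structure Cls {c : I → I → ℤ} {g : I → Y} (C : Tor R c g) (y0 : I → ℤ) (mu : ↥T →* ℂˣ) (x : ℂˣ) : Prop where
  le : Wst R mu ≤ Rg R mu
  val : ∀ i, mu ⟨g i, C.mem i⟩ ∈ Subgroup.zpowers x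
  att : ∃ nu, Cw R mu nu ∧ C.vl nu y0 = x
  all : ∀ nu, Cw R mu nu → C.vl nu y0 = x ∨ ∃ m : ℤ, C.vl nu y0 = x ^ (2 * m)

/-- no fixed points outside the Levi subgroup -/
theorem Tor.fpf {c : I → I → ℤ} {g : I → Y} (C : Tor R c g) {J : Set I} {y0 : I → ℤ}
    (hJ : ∀ j ∈ J, g j ^ pairing c j y0 = 1)
    (hf : ∀ x ∈ NotJ cs h J, (∀ j ∈ J, pairing A j x ≤ 0) → ∃ ω i, scw (-A) ω x = sr i ∧
      ∀ r : ℤ, Odd r → g i ^ (r * pairing c i (scw c ω y0)) ≠ 1) {r : ℕ} (hr : Odd r) :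
    (∀ x ∈ PosJ cs h J, ∀ u ∈ X x, C.el y0 ^ r * u = u * C.el y0 ^ r) ∧
      ∀ v ∈ VJ cs h X J, C.el y0 ^ r * v = v * C.el y0 ^ r → v = 1 := by
  have h1 : ∀ j ∈ J, n j * C.el y0 ^ r * (n j)⁻¹ = C.el y0 ^ r := fun j hj => by
    rw [← conj_pow, C.conj_el', hJ j hj, mul_one]
  have hg := pow_mem (C.el_mem y0) r
  refine ⟨C.cen_PosJ hg h1, fpf_VJ R hg (free_NotJ R h1 fun x hx h2 u hu e => ?_)⟩
  obtain ⟨ω, i, h3, h4⟩ := hf x hx h2
  by_contra hu1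
  have h5 := comm_of_fix_word R C.comm hx.1 h3 hg hu hu1 e
  rw [← conj_pow, C.conj_word, ← zpow_natCast, ← C.el_smul, C.conj_el', mul_eq_left, pairing_smul] at h5
  exact h4 r ((Int.odd_coe_nat r).2 hr) h5

/-- **`QA` from the classification** -/
theorem qa_of (hM : AH.Main) (hp : p.Prime) (hp2 : p ≠ 2) (hG : GG cs h T X = ⊤) {c : I → I → ℤ} {g : I → Y}
    (C : Tor R c g) {J : Set I} {y0 : I → ℤ} (hJ : ∀ j ∈ J, g j ^ pairing c j y0 = 1)
    (hf : ∀ x ∈ NotJ cs h J, (∀ j ∈ J, pairing A j x ≤ 0) → ∃ ω i, scw (-A) ω x = sr i ∧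
      ∀ r : ℤ, Odd r → g i ^ (r * pairing c i (scw c ω y0)) ≠ 1)
    (hcl : ∀ lam, Odd (Wst R lam).index → ∃ mu x, Cw R lam mu ∧ Cls C y0 mu x) : QA Y := by
  intro θ hθ hodd hnr
  obtain ⟨lam, ⟨m, hm, h1⟩, h2⟩ := exists_lam R hG C.comm (C.nofix hp hp2) hθ hodd
  obtain ⟨mu, x, h3, K⟩ := hcl lam h2
  obtain ⟨nu, h4, h5⟩ := K.att
  obtain ⟨r, a, hr, ha⟩ := C.exists_odd
  have hg := pow_mem (C.el_mem y0) r
  have hv : ∀ xi : ↥T →* ℂˣ, xi ⟨C.el y0 ^ r, hg⟩ = C.vl xi y0 ^ r := fun xi => map_pow xi ⟨_, C.el_mem y0⟩ r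
  by_cases h6 : ((x ^ r : ℂˣ) : ℂ) ^ 2 = 1
  · refine absurd (fun τ hτ => fix_two R hM hp hp2 hG C.comm hτ (lam := mu) (C.fix_tau hτ fun i => ?_)
      (fun w hw => K.le (mul_mem hw hw)) hθ ⟨m, hm, (h3.mB_eq hG hθ).trans h1⟩) hnr
    have h7 : τ (x : ℂ) = x := by
      have h8 : τ ((x ^ r : ℂˣ) : ℂ) = (x ^ r : ℂˣ) := fix_of_sq (Units.val_eq_one.1 h6)
      have h9 : τ (((x : ℂ)) ^ 2) = (x : ℂ) ^ 2 := hτ r _ hr (by
        rw [← pow_mul, mul_comm, pow_mul, ← Units.val_pow_eq_pow_val, h6])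
      obtain ⟨j, rfl⟩ := hr
      rw [Units.val_pow_eq_pow_val, pow_succ, pow_mul, map_mul, map_pow, h9] at h8
      exact mul_left_cancel₀ (pow_ne_zero _ (pow_ne_zero _ x.ne_zero)) h8
    obtain ⟨j, hj⟩ := K.val i
    rw [← hj]
    simp only [Units.val_zpow_eq_zpow_val, map_zpow₀, h7]
  · have h7 : ((x ^ r : ℂˣ) : ℂ) ^ 2 ^ a = 1 := by
      rw [← h5, ← hv, ← Units.val_pow_eq_pow_val, ← map_pow,
        show (⟨C.el y0 ^ r, hg⟩ : ↥T) ^ 2 ^ a = 1 from Subtype.ext (ha _ (C.el_mem y0)), map_one, Units.val_one]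
    obtain ⟨e, he⟩ := exists_e h7 h6
    obtain ⟨k, -, hk⟩ := (Nat.dvd_prime_pow Nat.prime_two).1 (orderOf_dvd_of_pow_eq_one (ha _ (C.el_mem y0)))
    obtain ⟨h8, h9⟩ := C.fpf hJ hf hr
    refine ⟨_, k, hk, pos R hG hθ (lam := nu) ?_ hg (ha _ (C.el_mem y0)) h8 h9 (e := e) (by rw [hv, h5, he])
      fun w l hl => ?_⟩
    · rw [(h3.trans h4).mB_eq hG hθ, h1, Nat.cast_ne_zero]
      rintro rfl
      exact absurd hm (by decide)
    · rw [← cjl_apply hl.mem_normalizer nu hg, hv, hv, h5]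
      rcases K.all _ (h4.trans (cw_cjl R nu hl)) with h10 | ⟨j, h10⟩
      · exact Or.inl (by rw [h10])
      · refine Or.inr ?_
        have h11 : ((x ^ r) ^ 2 ^ (e + 1)) ^ 2 = 1 := by
          rw [← Units.val_eq_one, Units.val_pow_eq_pow_val, Units.val_pow_eq_pow_val, he]
          norm_num
        calc (C.vl (cjl hl.mem_normalizer nu) y0 ^ r) ^ 2 ^ (e + 1) = (((x ^ r) ^ 2 ^ (e + 1)) ^ 2) ^ j := by
              rw [h10, ← zpow_natCast, ← zpow_natCast, ← zpow_natCast, ← zpow_natCast, ← zpow_natCast]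
              simp only [← zpow_mul]
              congr 1
              push_cast
              ring
          _ = 1 := by rw [h11, one_zpow]

end main

/-! ### nodes of type `SL₂` -/

section sl2

open Matrix Cfsg.Agent.ODD.Cv Cfsg.Agent.H310.OQ Cfsg.Agent.Nodes.RGDLift Cfsg.Agent.Nodes.RGDLib

variable {k : I → Type} [∀ i, Field (k i)] {Φ : ∀ i, SpecialLinearGroup (Fin 2) (k i) →* Y}

theorem card_X (S : InS p cs h T X Φ) (i : I) : Nat.card (X (sr i)) = Nat.card (k i) := by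
  refine (Nat.card_eq_of_bijective (fun t : k i => (⟨Φ i (uu t), S.uu_mem i t⟩ : X (sr i))) ⟨fun s t hst => ?_, ?_⟩).symm
  · have h1 : Φ i (uu s) = Φ i (uu t) := congrArg Subtype.val hst
    have h2 : Φ i (uu (s + -t)) = 1 := by
      rw [← uu_mul, map_mul, h1, ← map_mul, uu_mul, add_neg_cancel, uu_zero, map_one]
    have h3 := S.inj i _ h2
    rwa [← sub_eq_add_neg, sub_eq_zero] at h3
  · rintro ⟨u, hu⟩
    obtain ⟨t, rfl⟩ := (S.u i u).1 hu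
    exact ⟨t, rfl⟩

theorem order_dd (S : InS p cs h T X Φ) {i : I} {ω : (k i)ˣ} (hω : ∀ c, c ∈ Subgroup.zpowers ω)
    (hi : ∀ c, Φ i (dd c) = 1 → c = 1) : orderOf (Φ i (dd ω)) + 1 = Nat.card (k i) := by
  have := S.finite i
  have h1 : orderOf (((Φ i).comp dd) ω) = orderOf ω :=
    orderOf_injective _ ((injective_iff_map_eq_one _).2 hi) ω
  have h2 : 0 < Nat.card (k i) := Nat.card_pos
  rw [MonoidHom.comp_apply] at h1
  rw [h1, orderOf_eq_card_of_forall_mem_zpowers hω, Nat.card_units]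
  omega

theorem tor_of_inS (S : InS p cs h T X Φ) {ω : ∀ i, (k i)ˣ} (hω : ∀ i c, c ∈ Subgroup.zpowers (ω i))
    {c : I → I → ℤ} (hc : ∀ i j, Φ i ww * Φ j (dd (ω j)) * (Φ i ww)⁻¹ = Φ j (dd (ω j)) * Φ i (dd (ω i)) ^ c i j)
    (hs : ∀ i, ∃ j, c i j = 1) (hi : ∀ i c, Φ i (dd c) = 1 → c = 1) :
    Tor S.inp.rgd c fun i => Φ i (dd (ω i)) where
  comm := S.inp.comm
  mem i := S.d i _
  conj := hc
  gen t ht := ⟨1, one_mem _, by rw [orderOf_one]; exact odd_one, t, S.tor_gen hω ht, (one_mul t).symm⟩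
  sur := hs
  card i := by rw [card_X S, order_dd S (hω i) (hi i)]

/-- the data of a cover -/
theorem tor_lift {Y' : Type} [Group Y'] [Finite Y'] {T' : Subgroup Y'} {X' : (I → ℤ) → Subgroup Y'}
    {Φ' : ∀ i, SpecialLinearGroup (Fin 2) (k i) →* Y'} (S : InS p cs h T' X' Φ') (hp : p.Prime) (hp2 : p ≠ 2)
    {f : Y →* Y'} (E : CE p f) (hY : commutator Y = ⊤) (hp3 : p = 3 → Function.Injective f)
    {ω : ∀ i, (k i)ˣ} (hω : ∀ i c, c ∈ Subgroup.zpowers (ω i)) {c : I → I → ℤ}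
    (hc : ∀ i j, Φ' i ww * Φ' j (dd (ω j)) * (Φ' i ww)⁻¹ = Φ' j (dd (ω j)) * Φ' i (dd (ω i)) ^ c i j)
    (hs : ∀ i, ∃ j, c i j = 1) (hi : ∀ i c, Φ' i (dd c) = 1 → c = 1) :
    ∃ (Φ : ∀ i, SpecialLinearGroup (Fin 2) (k i) →* Y) (S' : InS p cs h (T'.comap f) (fun x => lft p f (X' x)) Φ),
      (∀ i g, f (Φ i g) = Φ' i g) ∧ (∀ i g, Φ' i g = 1 → Φ i g = 1) ∧ Tor S'.inp.rgd c fun i => Φ i (dd (ω i)) := by
  obtain ⟨Φ, h1, h2, S'⟩ := S.lift hp hp2 E hY hp3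
  refine ⟨Φ, S', h1, h2, tor_of_inS S' hω (fun i j => ?_) hs fun i c e => hi i c (by rw [← h1, e, map_one])⟩
  rw [← map_zpow]
  refine S'.conj_lift h1 h2 (S'.d j _) ?_
  rw [h1, hc, map_zpow]

end sl2

end Cfsg.Agent.ODD.Pos
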